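import Cfsg.Agent.Lib.BenderOne67.C2.Star

/-!
# The arithmetic of the endgame of node C2

`X` stands for the irreducible characters of `G`, `a` for their degrees, `M` for their
multiplicities in the permutation character on involutions minus the one on points, `b` for their
values at an involution, `f i` and `A₁` for their multiplicities at the nontrivial and the trivial
linear characters of `K`.
-/

set_option autoImplicit false

namespace Cfsg.Agent.Lib.BenderOne67.C2.Arith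

variable {X : Type*}

theorem sq_sum_le (S : Finset X) (u v : X → ℤ) :
    (∑ x ∈ S, u x * v x) ^ 2 ≤ (∑ x ∈ S, u x ^ 2) * ∑ x ∈ S, v x ^ 2 :=
  Finset.sum_mul_sq_le_sq_mul_sq S u v

/-- The characters which are constant on `K`, split into those with small and with big values. -/
theorem split [DecidableEq X] {S : Finset X} {M : X → ℕ} {b c k : X → ℤ} {m L : ℤ}
    (hk : ∀ x ∈ S, 0 < M x → 2 * b x = c x + k x * m ∧ 0 ≤ k x ∧ (k x = 0 → 2 ≤ c x))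
    (hL : ∑ x ∈ S, c x ^ 2 ≤ L) :
    ∃ β T P Q Ssum cs cb : ℤ,
      2 * ∑ x ∈ S, (M x : ℤ) * b x = β * m + ∑ x ∈ S, (M x : ℤ) * c x ∧
      0 ≤ T ∧ T ≤ β ∧ 0 ≤ P ∧ P ≤ T ^ 2 ∧ Even (P - T) ∧
      ∑ x ∈ S, (M x : ℤ) ^ 2 = P + Q ∧ 0 ≤ Q ∧ 4 * Q ≤ Ssum ^ 2 ∧ 0 ≤ Ssum ∧
      (Ssum = 0 ∨ (2 ≤ Ssum ∧ 4 ≤ cs)) ∧ 0 ≤ cs ∧ 0 ≤ cb ∧ cs + cb ≤ L ∧
      (∑ x ∈ S, (M x : ℤ) * c x - Ssum) ^ 2 ≤ P * cb := by
  set A := S.filter (fun x => 0 < M x) with hA
  set Sm := A.filter (fun x => k x = 0) with hSm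
  set Bg := A.filter (fun x => k x ≠ 0) with hBg
  have hz : ∀ g : X → ℤ, (∀ x ∈ S, M x = 0 → g x = 0) → ∑ x ∈ S, g x = ∑ x ∈ A, g x := by
    intro g hg
    refine (Finset.sum_subset (Finset.filter_subset _ _) fun x hx hxA => hg x hx ?_).symm
    simp only [Finset.mem_filter, hx, true_and, not_lt, Nat.le_zero] at hxA
    exact hxA
  have hsp : ∀ g : X → ℤ, ∑ x ∈ A, g x = ∑ x ∈ Sm, g x + ∑ x ∈ Bg, g x := fun g =>
    (Finset.sum_filter_add_sum_filter_not A _ g).symm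
  have hA' : ∀ x ∈ A, x ∈ S ∧ 0 < M x := fun x hx => Finset.mem_filter.1 hx
  have hB : ∀ x ∈ Bg, 1 ≤ k x := by
    intro x hx
    obtain ⟨hxA, hne⟩ := Finset.mem_filter.1 hx
    have := (hk x (hA' x hxA).1 (hA' x hxA).2).2.1
    omega
  have hS : ∀ x ∈ Sm, 2 ≤ c x ∧ (1 : ℤ) ≤ M x := by
    intro x hx
    obtain ⟨hxA, h0⟩ := Finset.mem_filter.1 hx
    refine ⟨(hk x (hA' x hxA).1 (hA' x hxA).2).2.2 h0, ?_⟩
    exact_mod_cast (hA' x hxA).2
  have hcz : (∑ x ∈ S, (M x : ℤ) * c x) = ∑ x ∈ Sm, (M x : ℤ) * c x + ∑ x ∈ Bg, (M x : ℤ) * c x := by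
    rw [hz _ fun x _ h => by simp [h], hsp]
  have hcsq : ∑ x ∈ Sm, c x ^ 2 + ∑ x ∈ Bg, c x ^ 2 ≤ L := by
    rw [← hsp]
    exact le_trans (Finset.sum_le_sum_of_subset_of_nonneg (Finset.filter_subset _ _)
      fun x _ _ => sq_nonneg _) hL
  refine ⟨∑ x ∈ Bg, (M x : ℤ) * k x, ∑ x ∈ Bg, (M x : ℤ), ∑ x ∈ Bg, (M x : ℤ) ^ 2,
    ∑ x ∈ Sm, (M x : ℤ) ^ 2, ∑ x ∈ Sm, (M x : ℤ) * c x, ∑ x ∈ Sm, c x ^ 2, ∑ x ∈ Bg, c x ^ 2,
    ?_, Finset.sum_nonneg fun x _ => Int.natCast_nonneg _, ?_,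
    Finset.sum_nonneg fun x _ => sq_nonneg _, Finset.sum_sq_le_sq_sum_of_nonneg
      fun x _ => Int.natCast_nonneg _, ?_, ?_, Finset.sum_nonneg fun x _ => sq_nonneg _, ?_, ?_, ?_,
    Finset.sum_nonneg fun x _ => sq_nonneg _, Finset.sum_nonneg fun x _ => sq_nonneg _, hcsq, ?_⟩
  · rw [Finset.mul_sum, hz _ fun x _ h => by simp [h], hz _ fun x _ h => by simp [h]]
    have h1 : ∑ x ∈ Bg, (M x : ℤ) * k x = ∑ x ∈ A, (M x : ℤ) * k x := by
      have h0 : ∑ x ∈ Sm, (M x : ℤ) * k x = 0 :=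
        Finset.sum_eq_zero fun x hx => by rw [(Finset.mem_filter.1 hx).2, mul_zero]
      rw [hsp fun x => (M x : ℤ) * k x, h0, zero_add]
    rw [h1, Finset.sum_mul, ← Finset.sum_add_distrib]
    refine Finset.sum_congr rfl fun x hx => ?_
    have := (hk x (hA' x hx).1 (hA' x hx).2).1
    linear_combination (M x : ℤ) * this
  · exact Finset.sum_le_sum fun x hx => le_mul_of_one_le_right (Int.natCast_nonneg _) (hB x hx)
  · rw [← Finset.sum_sub_distrib]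
    refine Finset.even_sum _ fun x _ => ?_
    rw [show (M x : ℤ) ^ 2 - M x = ((M x : ℤ) - 1) * ((M x : ℤ) - 1 + 1) by ring]
    exact Int.even_mul_succ_self _
  · rw [hz _ fun x _ h => by simp [h], hsp]
    exact add_comm _ _
  · calc 4 * ∑ x ∈ Sm, (M x : ℤ) ^ 2 = ∑ x ∈ Sm, (2 * (M x : ℤ)) ^ 2 := by
          rw [Finset.mul_sum]; exact Finset.sum_congr rfl fun x _ => by ring
      _ ≤ (∑ x ∈ Sm, 2 * (M x : ℤ)) ^ 2 := Finset.sum_sq_le_sq_sum_of_nonneg fun x _ => by positivity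
      _ ≤ _ := by
          refine pow_le_pow_left₀ (Finset.sum_nonneg fun x _ => by positivity)
            (Finset.sum_le_sum fun x hx => ?_) 2
          rw [mul_comm]
          exact mul_le_mul_of_nonneg_left (hS x hx).1 (Int.natCast_nonneg _)
  · refine Finset.sum_nonneg fun x hx => mul_nonneg (Int.natCast_nonneg _) ?_
    linarith [(hS x hx).1]
  · rcases Sm.eq_empty_or_nonempty with h | ⟨x, hx⟩
    · exact Or.inl (by rw [h, Finset.sum_empty])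
    refine Or.inr ⟨?_, ?_⟩
    · refine le_trans ?_ (Finset.single_le_sum (fun y hy => mul_nonneg (Int.natCast_nonneg _)
        (by linarith [(hS y hy).1])) hx)
      nlinarith [(hS x hx).1, (hS x hx).2]
    · refine le_trans ?_ (Finset.single_le_sum (fun y _ => sq_nonneg (c y)) hx)
      nlinarith [(hS x hx).1]
  · rw [hcz, add_sub_cancel_left]
    exact sq_sum_le _ _ _

/-- No exceptional constituent: all values at involutions come in one way. -/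
theorem noExc {β T P Q Ssum cs cb L N q : ℤ} (hβ : β = 2) (hT : 0 ≤ T) (hTβ : T ≤ β)
    (hP0 : 0 ≤ P) (hP : P ≤ T ^ 2) (hev : Even (P - T)) (hQ : 4 * Q ≤ Ssum ^ 2)
    (hQ0 : 0 ≤ Q) (hS : Ssum = 0 ∨ (2 ≤ Ssum ∧ 4 ≤ cs)) (hcb : 0 ≤ cb) (hL : cs + cb ≤ L)
    (hB : (-2 - Ssum) ^ 2 ≤ P * cb) (hn : 2 * N + 1 ≤ P + Q) :
    (N = 1 → L ≤ 5 → P + Q = 4) ∧ (3 ≤ N → L ≤ 2 * q - 2 → q - 2 ≤ N → False) := by
  subst hβ
  have hP4 : P ≤ 4 := by nlinarith
  rcases hS with h0 | ⟨hS2, hcs⟩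
  · subst h0
    have hQz : Q = 0 := by omega
    refine ⟨fun hN _ => ?_, fun hN _ _ => by omega⟩
    obtain ⟨r, hr⟩ := hev
    have : T ≤ 2 := hTβ
    interval_cases T <;> omega
  · have hB4 : (-2 - Ssum) ^ 2 ≤ 4 * cb :=
      hB.trans (mul_le_mul_of_nonneg_right hP4 hcb)
    refine ⟨fun _ hL5 => ?_, fun hN hLq hNq => ?_⟩
    · exfalso
      nlinarith
    · nlinarith

variable {I : Type*} [Fintype X] [DecidableEq X] [Fintype I] [DecidableEq I]

/-- The data attached to the characters. -/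
structure Data (f : I → X → ℤ) (A₁ b : X → ℤ) (a M : X → ℕ) (q m n N : ℤ) (x₀ x₁ : X) : Prop where
  hN : N = Fintype.card I
  hm : m = 2 * q * N + 1
  hqN : (q = 3 ∧ N = 1) ∨ (q = 5 ∧ N = 3) ∨ (7 ≤ q ∧ 9 ≤ N ∧ q - 2 ≤ N)
  pos : ∀ x, 0 < a x
  deg : ∀ x, (a x : ℤ) = A₁ x + 2 * q * ∑ i, f i x
  dist : ∀ i j, i ≠ j → ∑ x, (f i x - f j x) ^ 2 = 2
  orth : ∀ i j, ∑ x, (a x : ℤ) * (f i x - f j x) = 0
  orthM : ∀ i j, ∑ x, (M x : ℤ) * (f i x - f j x) = 0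
  sqSum : ∑ x, (N * A₁ x - ∑ i, f i x) ^ 2 = m * N
  sumM : ∑ x, (M x : ℤ) * (N * A₁ x - ∑ i, f i x) = -2 * N
  sumB : ∑ x, (M x : ℤ) * b x = m - 1
  prop : ∀ x, 0 < M x → (a x : ℤ) = n * b x ∧ 1 ≤ b x
  hn : m ∣ n - 2
  norm : 2 * N + 1 ≤ ∑ x, (M x : ℤ) ^ 2
  ne : x₀ ≠ x₁
  zero₀ : M x₀ = 0
  zero₁ : M x₁ = 0
  w₀ : N * A₁ x₀ - ∑ i, f i x₀ = N
  w₁ : N * A₁ x₁ - ∑ i, f i x₁ = N
  const₀ : ∀ i j, f i x₀ = f j x₀
  const₁ : ∀ i j, f i x₁ = f j x₁

variable {f : I → X → ℤ} {A₁ b : X → ℤ} {a M : X → ℕ} {q m n N : ℤ} {x₀ x₁ : X}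

omit [DecidableEq X] [DecidableEq I] in
theorem Data.mb_nonneg (D : Data f A₁ b a M q m n N x₀ x₁) (x : X) : 0 ≤ (M x : ℤ) * b x := by
  rcases Nat.eq_zero_or_pos (M x) with h | h
  · simp [h]
  · exact mul_nonneg (Int.natCast_nonneg _) (by linarith [(D.prop x h).2])

omit [DecidableEq X] [DecidableEq I] in
theorem Data.b_le (D : Data f A₁ b a M q m n N x₀ x₁) {x : X} (hx : 0 < M x) : b x ≤ m - 1 := by
  rw [← D.sumB]
  refine le_trans ?_ (Finset.single_le_sum (f := fun y => (M y : ℤ) * b y)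
    (fun y _ => D.mb_nonneg y) (Finset.mem_univ x))
  exact le_mul_of_one_le_left (by linarith [(D.prop x hx).2]) (by exact_mod_cast hx)

omit [DecidableEq X] [DecidableEq I] in
theorem Data.cong (D : Data f A₁ b a M q m n N x₀ x₁) {x : X} (hx : 0 < M x) {d : ℤ}
    (hd : m ∣ (a x : ℤ) - d) : m ∣ 2 * b x - d := by
  rw [(D.prop x hx).1] at hd
  have := dvd_sub hd (D.hn.mul_right (b x))
  rwa [show n * b x - d - (n - 2) * b x = 2 * b x - d by ring] at this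

omit [DecidableEq X] [DecidableEq I] in
theorem Data.key (D : Data f A₁ b a M q m n N x₀ x₁) {S : Finset X} {c : X → ℤ} {L : ℤ}
    (hc : ∀ x ∈ S, m ∣ (a x : ℤ) - c x) (hL : ∑ x ∈ S, c x ^ 2 ≤ L) (hLm : L < m) :
    ∃ k : X → ℤ, ∀ x ∈ S, 0 < M x →
      2 * b x = c x + k x * m ∧ 0 ≤ k x ∧ (k x = 0 → 2 ≤ c x) := by
  refine ⟨fun x => (2 * b x - c x) / m, fun x hxS hxM => ?_⟩
  have hd := Int.ediv_mul_cancel (D.cong hxM (hc x hxS))
  have hb := (D.prop x hxM).2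
  have hcL : c x ^ 2 ≤ L :=
    le_trans (Finset.single_le_sum (fun y _ => sq_nonneg (c y)) hxS) hL
  have habs : c x ≤ c x ^ 2 := Int.le_self_sq _
  have hm0 : 0 ≤ m := by linarith [sq_nonneg (c x)]
  refine ⟨by linarith, ?_, fun h => ?_⟩
  · show 0 ≤ (2 * b x - c x) / m
    by_contra hneg
    have := mul_le_mul_of_nonneg_right (show (2 * b x - c x) / m ≤ -1 by omega) hm0
    linarith
  · have h' : (2 * b x - c x) / m = 0 := h
    rw [h', zero_mul] at hd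
    omega

omit [DecidableEq I] in
theorem Data.drop (D : Data f A₁ b a M q m n N x₀ x₁) (g : X → ℤ) {S : Finset X} (h₀ : x₀ ∈ S)
    (h₁ : x₁ ∈ S) (hg : ∀ x, M x = 0 → g x = 0) :
    ∑ x ∈ (S.erase x₀).erase x₁, g x = ∑ x ∈ S, g x := by
  rw [← Finset.add_sum_erase S g h₀,
    ← Finset.add_sum_erase _ g (Finset.mem_erase.2 ⟨D.ne.symm, h₁⟩), hg _ D.zero₀, hg _ D.zero₁,
    zero_add, zero_add]

omit [DecidableEq I] in
theorem Data.drop_sq (D : Data f A₁ b a M q m n N x₀ x₁) (g : X → ℤ) {S : Finset X} (h₀ : x₀ ∈ S)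
    (h₁ : x₁ ∈ S) (g₀ : g x₀ = 1) (g₁ : g x₁ = 1) :
    ∑ x ∈ (S.erase x₀).erase x₁, g x ^ 2 = ∑ x ∈ S, g x ^ 2 - 2 := by
  rw [← Finset.add_sum_erase S _ h₀,
    ← Finset.add_sum_erase _ _ (Finset.mem_erase.2 ⟨D.ne.symm, h₁⟩), g₀, g₁]
  ring

omit [DecidableEq I] in
/-- One orbit of linear characters. -/
theorem norm_eq_one (D : Data f A₁ b a M q m n N x₀ x₁) (hI : N = 1) :
    ∑ x, (M x : ℤ) ^ 2 = 4 * N := by
  obtain rfl : q = 3 := by rcases D.hqN with ⟨h, -⟩ | ⟨-, h⟩ | ⟨-, h, -⟩ <;> omega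
  subst hI
  have hm7 : m = 7 := by rw [D.hm]; norm_num
  obtain ⟨i₀, hi₀⟩ := Fintype.card_eq_one_iff.1 (by exact_mod_cast D.hN.symm)
  have hs : ∀ x, ∑ i, f i x = f i₀ x := fun x =>
    Fintype.sum_eq_single i₀ fun i hi => absurd (hi₀ i) hi
  set c : X → ℤ := fun x => A₁ x - f i₀ x with hcdef
  have hdv : ∀ x, m ∣ (a x : ℤ) - c x := fun x => by
    rw [D.deg x, hs x, hm7]
    exact ⟨f i₀ x, by simp only [hcdef]; ring⟩
  have hw : ∀ x, (1 : ℤ) * A₁ x - ∑ i, f i x = c x := fun x => by rw [hs x, one_mul]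
  have h0 : c x₀ = 1 := (hw x₀).symm.trans D.w₀
  have h1 : c x₁ = 1 := (hw x₁).symm.trans D.w₁
  have hsq := D.sqSum
  have hsM := D.sumM
  simp only [hw] at hsq hsM
  have hLU : ∑ x ∈ (Finset.univ.erase x₀).erase x₁, c x ^ 2 ≤ 5 := by
    rw [D.drop_sq c (Finset.mem_univ _) (Finset.mem_univ _) h0 h1, hsq, hm7]
    norm_num
  obtain ⟨k, hk⟩ := D.key (fun x _ => hdv x) hLU (by rw [hm7]; norm_num)
  obtain ⟨β, T, P, Q, S, cs, cb, e1, hT, hTβ, hP0, hP, hev, e2, hQ0, hQ, hS0, hS, hcs, hcb, hL, hB⟩ :=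
    split hk hLU
  rw [D.drop (fun x => (M x : ℤ) * b x) (Finset.mem_univ _) (Finset.mem_univ _)
    (fun x h => by simp [h]), D.drop (fun x => (M x : ℤ) * c x) (Finset.mem_univ _)
    (Finset.mem_univ _) (fun x h => by simp [h]), D.sumB, hsM, hm7] at e1
  rw [D.drop (fun x => (M x : ℤ) * c x) (Finset.mem_univ _) (Finset.mem_univ _)
    (fun x h => by simp [h]), hsM] at hB
  rw [D.drop (fun x => (M x : ℤ) ^ 2) (Finset.mem_univ _) (Finset.mem_univ _)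
    (fun x h => by simp [h])] at e2
  have hn := D.norm
  rw [e2] at hn
  have := (noExc (q := 3) (L := 5) (N := 1) (by linarith) hT hTβ hP0 hP hev hQ hQ0 hS hcb hL
    (by simpa using hB) hn).1 rfl le_rfl
  rw [e2, this]
  norm_num

omit [Fintype X] [DecidableEq X] [Fintype I] [DecidableEq I] in
/-- The exceptional constituents take the value `q` at involutions. -/
theorem exc {a₀ ε be Me Vb L PQ : ℤ} (hm : m = 2 * q * N + 1)
    (hqN : (q = 5 ∧ N = 3) ∨ (7 ≤ q ∧ 9 ≤ N ∧ q - 2 ≤ N)) (hε : ε = 1 ∨ ε = -1)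
    (hL : N * a₀ ^ 2 - 2 * ε * a₀ + L = 2 * q - 2) (hL0 : 0 ≤ L) (hMe : 1 ≤ Me) (hbe : 1 ≤ be)
    (hsum : 2 * q * N = N * (Me * be) + Vb) (hVb : 0 ≤ Vb) (hd : m ∣ 2 * be - (a₀ + 2 * q * ε))
    (hLV : L = 0 → Vb = 0) (hVP : Vb = 0 → PQ = 0) (hn : 2 * N + 1 ≤ N * Me ^ 2 + PQ) :
    a₀ = 0 ∧ be = q ∧ ε = 1 ∧ Me ≤ 2 := by
  have hN : 3 ≤ N := by rcases hqN with ⟨-, h⟩ | ⟨-, h, -⟩ <;> omega
  have hMbe : Me * be ≤ 2 * q := by
    by_contra hc
    nlinarith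
  have hbe2 : be ≤ 2 * q := le_trans (le_mul_of_one_le_left (by linarith) hMe) hMbe
  obtain ⟨j, hj⟩ := hd
  rcases hqN with ⟨rfl, rfl⟩ | ⟨hq, hN9, hNq⟩
  · subst hm
    norm_num at hsum hj hbe2 hMbe hL ⊢
    have hb' : -2 ≤ a₀ ∧ a₀ ≤ 2 := by
      rcases hε with rfl | rfl <;> constructor <;> nlinarith
    have hbig : Me ≠ 1 ∨ 4 ≤ PQ := by
      by_contra hc
      rw [not_or, not_not, not_le] at hc
      obtain ⟨rfl, hc⟩ := hc
      linarith
    have hLV' : L ≠ 0 ∨ Vb = 0 := imp_iff_not_or.1 hLV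
    have hVP' : Vb ≠ 0 ∨ PQ = 0 := imp_iff_not_or.1 hVP
    obtain ⟨h1, h2⟩ := hb'
    rcases hε with rfl | rfl <;> interval_cases a₀ <;> interval_cases be <;>
      omega
  · have hm2 : 18 * q + 1 ≤ m := by rw [hm]; nlinarith
    have ha1 : -1 ≤ a₀ ∧ a₀ ≤ 1 := by
      by_contra hc
      rw [not_and_or, not_le, not_le] at hc
      have h4 : 4 ≤ a₀ ^ 2 := by rcases hc with h | h <;> nlinarith
      have h5 : 2 * (ε * a₀) ≤ a₀ ^ 2 := by
        rcases hε with rfl | rfl <;> rcases hc with h | h <;> nlinarith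
      nlinarith
    have hj0 : j = 0 := by
      rcases lt_trichotomy j 0 with h | h | h
      · have := mul_le_mul_of_nonneg_left (show j ≤ -1 by omega) (show 0 ≤ m by linarith)
        rcases hε with rfl | rfl <;> omega
      · exact h
      · have := mul_le_mul_of_nonneg_left (show 1 ≤ j by omega) (show 0 ≤ m by linarith)
        rcases hε with rfl | rfl <;> omega
    rw [hj0, mul_zero] at hj
    obtain ⟨rfl, hb⟩ : a₀ = 0 ∧ be = q ∧ ε = 1 := by rcases hε with rfl | rfl <;> omega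
    obtain ⟨rfl, rfl⟩ := hb
    refine ⟨rfl, rfl, rfl, ?_⟩
    nlinarith

omit [Fintype X] [DecidableEq X] [Fintype I] [DecidableEq I] in
/-- With exceptional constituents they occur twice and nothing else occurs. -/
theorem exc_end {β T P Q S cs cb L Me : ℤ} (hMe : Me = 1 ∨ Me = 2) (hβ : β = 2 - Me)
    (hN : 3 ≤ N) (hNq : q - 2 ≤ N) (hT : 0 ≤ T) (hTβ : T ≤ β) (hP0 : 0 ≤ P) (hP : P ≤ T ^ 2)
    (hQ : 4 * Q ≤ S ^ 2) (hS0 : 0 ≤ S) (hcs : 0 ≤ cs) (hcb : 0 ≤ cb) (hL : cs + cb ≤ L)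
    (hLq : L ≤ 2 * q - 2) (hQ0 : 0 ≤ Q) (hB : (Me - 2 - S) ^ 2 ≤ P * cb)
    (hn : 2 * N + 1 ≤ N * Me ^ 2 + (P + Q)) : N * Me ^ 2 + (P + Q) = 4 * N := by
  rcases hMe with rfl | rfl
  · exfalso
    have hT1 : T ≤ 1 := by omega
    have hP1 : P ≤ 1 := by nlinarith
    have hB1 : (1 + S) ^ 2 ≤ cb := by
      have := mul_le_mul_of_nonneg_right hP1 hcb
      nlinarith
    nlinarith
  · obtain rfl : T = 0 := by omega
    obtain rfl : P = 0 := by
      norm_num at hP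
      omega
    obtain rfl : S = 0 := by
      norm_num at hB
      exact hB
    obtain rfl : Q = 0 := by omega
    ring

set_option maxHeartbeats 1000000 in
/-- The norm of the class function is that of the separated case. -/
theorem norm_eq (D : Data f A₁ b a M q m n N x₀ x₁) : ∑ x, (M x : ℤ) ^ 2 = 4 * N := by
  by_cases hI : N = 1
  · exact norm_eq_one D hI
  have hqN' : (q = 5 ∧ N = 3) ∨ (7 ≤ q ∧ 9 ≤ N ∧ q - 2 ≤ N) :=
    D.hqN.resolve_left fun h => hI h.2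
  have hN3 : 3 ≤ N := by rcases hqN' with ⟨-, h⟩ | ⟨-, h, -⟩ <;> omega
  have hq5 : 5 ≤ q := by rcases hqN' with ⟨h, -⟩ | ⟨h, -, -⟩ <;> omega
  have hqN2 : q - 2 ≤ N := by rcases hqN' with ⟨h, h'⟩ | ⟨-, -, h⟩ <;> omega
  have h6 : 6 * q < m := by rw [D.hm]; nlinarith
  have hm0 : m ≠ 0 := by linarith
  have hNI := D.hN
  obtain ⟨σ, ε, A, hσ, hε, haσ, hfA⟩ := Star.star D.pos D.dist D.orth (by omega)
  set c : X → ℤ := fun x => A₁ x - A x with hcdef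
  set Z := Finset.univ.image σ with hZ
  have hσZ : ∀ i, σ i ∈ Z := fun i => Finset.mem_image.2 ⟨i, Finset.mem_univ i, rfl⟩
  have hsum : ∀ x, ∑ i, f i x = N * A x + if x ∈ Z then ε else 0 := by
    intro x
    simp only [hfA, Finset.sum_add_distrib, Finset.sum_const, Finset.card_univ, nsmul_eq_mul,
      ← hNI]
    congr 1
    by_cases hxZ : x ∈ Z
    · obtain ⟨i, -, rfl⟩ := Finset.mem_image.1 hxZ
      simp [hσ.eq_iff, hσZ]
    · rw [if_neg hxZ]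
      exact Finset.sum_eq_zero fun i _ => if_neg fun h : x = σ i => hxZ (h ▸ hσZ i)
  have hw : ∀ x, N * A₁ x - ∑ i, f i x = N * c x - if x ∈ Z then ε else 0 := fun x => by
    rw [hsum x]; simp only [hcdef]; ring
  have hdv : ∀ x, m ∣ (a x : ℤ) - (c x + if x ∈ Z then 2 * q * ε else 0) := fun x => by
    rw [D.deg x, hsum x, D.hm]
    exact ⟨A x, by simp only [hcdef]; split_ifs <;> ring⟩
  have hnZ : ∀ y, (∀ i j, f i y = f j y) → y ∉ Z := by
    intro y hy hyZ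
    obtain ⟨i, -, rfl⟩ := Finset.mem_image.1 hyZ
    obtain ⟨j, hj⟩ := Fintype.exists_ne_of_one_lt_card (show 1 < Fintype.card I by omega) i
    have h := hy i j
    rw [hfA, hfA, if_pos rfl, if_neg fun e => hj (hσ e).symm] at h
    rcases hε with rfl | rfl <;> omega
  have hone : ∀ y, y ∉ Z → N * A₁ y - ∑ i, f i y = N → c y = 1 := by
    intro y hyZ hy
    rw [hw y, if_neg hyZ, sub_zero] at hy
    exact mul_left_cancel₀ (show N ≠ 0 by omega) (by rw [mul_one]; exact hy)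
  have hc₀ : c x₀ = 1 := hone _ (hnZ x₀ D.const₀) D.w₀
  have hc₁ : c x₁ = 1 := hone _ (hnZ x₁ D.const₁) D.w₁
  have hZcard : (Z.card : ℤ) = N := by
    rw [hZ, Finset.card_image_of_injective _ hσ, Finset.card_univ, hNI]
  set V := Finset.univ.filter (fun x => x ∉ Z) with hV
  have huniv : ∀ g : X → ℤ, ∑ x, g x = ∑ x ∈ Z, g x + ∑ x ∈ V, g x := fun g => by
    rw [hV, ← Finset.sum_filter_add_sum_filter_not Finset.univ (fun x => x ∈ Z) g]
    congr 2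
    ext; simp
  have hVZ : ∀ x ∈ V, x ∉ Z := fun x hx => (Finset.mem_filter.1 hx).2
  -- the equation from the squares
  have hsq : N * (∑ x ∈ V, c x ^ 2 + ∑ x ∈ Z, c x ^ 2) = 2 * q * N + 2 * ε * ∑ x ∈ Z, c x := by
    have hε2 : ε ^ 2 = 1 := by rcases hε with rfl | rfl <;> norm_num
    have h := D.sqSum
    simp only [hw] at h
    rw [huniv, D.hm] at h
    have h1 : ∑ x ∈ Z, (N * c x - if x ∈ Z then ε else 0) ^ 2 =
        N ^ 2 * ∑ x ∈ Z, c x ^ 2 - 2 * ε * N * ∑ x ∈ Z, c x + N := by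
      rw [show ∑ x ∈ Z, (N * c x - if x ∈ Z then ε else 0) ^ 2 =
          ∑ x ∈ Z, (N ^ 2 * c x ^ 2 - 2 * ε * N * c x + 1) from Finset.sum_congr rfl fun x hxZ => by
        rw [if_pos hxZ]; linear_combination hε2, Finset.sum_add_distrib, Finset.sum_sub_distrib,
        ← Finset.mul_sum, ← Finset.mul_sum, Finset.sum_const, nsmul_eq_mul, mul_one, hZcard]
    have h2' : ∑ x ∈ V, (N * c x - if x ∈ Z then ε else 0) ^ 2 = N ^ 2 * ∑ x ∈ V, c x ^ 2 := by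
      rw [Finset.mul_sum]
      exact Finset.sum_congr rfl fun x hxV => by rw [if_neg (hVZ x hxV), sub_zero, mul_pow]
    rw [h1, h2'] at h
    exact mul_left_cancel₀ (show N ≠ 0 by omega) (by linear_combination h)
  -- the values on the exceptional characters are all equal
  obtain ⟨i₀⟩ : Nonempty I := Fintype.card_pos_iff.1 (by omega)
  set a₀ := c (σ i₀) with ha₀
  have hcz : ∀ x ∈ Z, c x = a₀ := by
    have hsq1 : ∀ z : ℤ, ε * z ≤ z ^ 2 := fun z => by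
      rcases hε with rfl | rfl <;> nlinarith [Int.le_self_sq z, Int.le_self_sq (-z)]
    have hbd : ∀ x ∈ Z, 2 * |c x| ≤ 6 * q := by
      intro x hxZ
      have h1 : ∀ y ∈ Z, 0 ≤ N * c y ^ 2 - 2 * ε * c y := fun y _ => by
        nlinarith [hsq1 (c y), sq_nonneg (c y)]
      have h2' : N * c x ^ 2 - 2 * ε * c x ≤ 2 * q * N := by
        refine le_trans (Finset.single_le_sum h1 hxZ) ?_
        rw [Finset.sum_sub_distrib, ← Finset.mul_sum, ← Finset.mul_sum]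
        nlinarith [Finset.sum_nonneg fun y (_ : y ∈ V) => sq_nonneg (c y)]
      have h3 : c x ^ 2 ≤ 6 * q := by nlinarith [hsq1 (c x)]
      by_contra hc
      nlinarith [sq_abs (c x), abs_nonneg (c x)]
    intro x hxZ
    obtain ⟨i, -, rfl⟩ := Finset.mem_image.1 hxZ
    have h1 := dvd_sub (hdv (σ i₀)) (hdv (σ i))
    rw [if_pos hxZ, if_pos (hσZ i₀), haσ i i₀] at h1
    have h2' : m ∣ c (σ i) - c (σ i₀) := by
      rwa [show (a (σ i₀) : ℤ) - (c (σ i₀) + 2 * q * ε) - ((a (σ i₀) : ℤ) - (c (σ i) + 2 * q * ε))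
        = c (σ i) - c (σ i₀) by ring] at h1
    have := Int.eq_zero_of_abs_lt_dvd h2' (by
      have := abs_sub (c (σ i)) (c (σ i₀))
      linarith [hbd _ hxZ, hbd _ (hσZ i₀)])
    linarith
  have hbudget : ∑ x ∈ V, c x ^ 2 + N * a₀ ^ 2 - 2 * ε * a₀ = 2 * q := by
    rw [show ∑ x ∈ Z, c x = ∑ x ∈ Z, a₀ from Finset.sum_congr rfl hcz,
      show ∑ x ∈ Z, c x ^ 2 = ∑ x ∈ Z, a₀ ^ 2 from
        Finset.sum_congr rfl fun x hxZ => by rw [hcz x hxZ],
      Finset.sum_const, Finset.sum_const, nsmul_eq_mul, nsmul_eq_mul, hZcard] at hsq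
    exact mul_left_cancel₀ (show N ≠ 0 by omega) (by linear_combination hsq)
  -- the multiplicities on the exceptional characters are all equal
  set Me := M (σ i₀) with hMe
  have hMz : ∀ x ∈ Z, M x = Me := by
    intro x hxZ
    obtain ⟨i, -, rfl⟩ := Finset.mem_image.1 hxZ
    have h := D.orthM i i₀
    simp only [hfA, add_sub_add_left_eq_sub, mul_sub, Finset.sum_sub_distrib, mul_ite, mul_zero,
      Finset.sum_ite_eq', Finset.mem_univ, if_true] at h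
    rcases hε with rfl | rfl <;> simp only [hMe] <;> omega
  have hMV : ∑ x ∈ V, (M x : ℤ) * c x = -2 - Me * (N * a₀ - ε) := by
    have h := D.sumM
    simp only [hw] at h
    rw [huniv] at h
    rw [show ∑ x ∈ Z, (M x : ℤ) * (N * c x - if x ∈ Z then ε else 0) =
        ∑ x ∈ Z, (Me : ℤ) * (N * a₀ - ε) from Finset.sum_congr rfl fun x hxZ => by
      rw [if_pos hxZ, hcz x hxZ, hMz x hxZ], Finset.sum_const, nsmul_eq_mul, hZcard,
      show ∑ x ∈ V, (M x : ℤ) * (N * c x - if x ∈ Z then ε else 0) =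
        N * ∑ x ∈ V, (M x : ℤ) * c x by
      rw [Finset.mul_sum]
      exact Finset.sum_congr rfl fun x hxV => by rw [if_neg (hVZ x hxV)]; ring] at h
    exact mul_left_cancel₀ (show N ≠ 0 by omega) (by linear_combination h)
  have hVx₀ : x₀ ∈ V := Finset.mem_filter.2 ⟨Finset.mem_univ _, hnZ x₀ D.const₀⟩
  have hVx₁ : x₁ ∈ V := Finset.mem_filter.2 ⟨Finset.mem_univ _, hnZ x₁ D.const₁⟩
  set W := (V.erase x₀).erase x₁ with hWdef
  set L := ∑ x ∈ W, c x ^ 2 with hLdef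
  have hLeq : L = 2 * q - 2 - (N * a₀ ^ 2 - 2 * ε * a₀) := by
    rw [hLdef, hWdef, D.drop_sq c hVx₀ hVx₁ hc₀ hc₁]
    linarith
  have hexc : 0 ≤ N * a₀ ^ 2 - 2 * ε * a₀ := by
    rcases hε with rfl | rfl <;> nlinarith [Int.le_self_sq a₀, Int.le_self_sq (-a₀), sq_nonneg a₀]
  have hWZ : ∀ x ∈ W, x ∉ Z := fun x hxW =>
    hVZ x (Finset.mem_erase.1 (Finset.mem_erase.1 hxW).2).2
  have hdW : ∀ x ∈ W, m ∣ (a x : ℤ) - c x := fun x hxW => by
    simpa [if_neg (hWZ x hxW)] using hdv x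
  obtain ⟨k, hk⟩ := D.key (L := L) hdW le_rfl (by linarith)
  obtain ⟨β, T, P, Q, S, cs, cb, e1, hT, hTβ, hP0, hP, hev, e2, hQ0, hQ, hS0, hS, hcs, hcb, hL, hB⟩ :=
    split hk (le_refl L)
  rw [hWdef, D.drop (fun x => (M x : ℤ) * b x) hVx₀ hVx₁ (fun x h => by simp [h]),
    D.drop (fun x => (M x : ℤ) * c x) hVx₀ hVx₁ (fun x h => by simp [h]), hMV] at e1
  rw [hWdef, D.drop (fun x => (M x : ℤ) * c x) hVx₀ hVx₁ (fun x h => by simp [h]), hMV] at hB
  rw [hWdef, D.drop (fun x => (M x : ℤ) ^ 2) hVx₀ hVx₁ (fun x h => by simp [h])] at e2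
  have hMbZ : ∑ x, (M x : ℤ) * b x = ∑ x ∈ Z, (M x : ℤ) * b x + ∑ x ∈ V, (M x : ℤ) * b x :=
    huniv _
  rw [D.sumB] at hMbZ
  have hgoal : ∑ x, (M x : ℤ) ^ 2 = N * (Me : ℤ) ^ 2 + (P + Q) := by
    rw [huniv, e2, Finset.sum_congr rfl fun x hxZ =>
      show (M x : ℤ) ^ 2 = (Me : ℤ) ^ 2 by rw [hMz x hxZ], Finset.sum_const, nsmul_eq_mul, hZcard]
  have hnorm := D.norm
  rw [hgoal] at hnorm ⊢
  rcases Nat.eq_zero_or_pos Me with hMe0 | hMe0
  · -- no exceptional constituent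
    exfalso
    have hbz : ∑ x ∈ Z, (M x : ℤ) * b x = 0 :=
      Finset.sum_eq_zero fun x hxZ => by rw [hMz x hxZ, hMe0]; simp
    rw [hbz, zero_add] at hMbZ
    rw [hMe0] at hnorm hB e1
    simp only [Nat.cast_zero, zero_mul, sub_zero] at hB e1
    rw [← hMbZ] at e1
    have hβ : β = 2 := mul_right_cancel₀ hm0 (by linarith)
    exact (noExc (L := L) (q := q) hβ hT hTβ hP0 hP hev hQ hQ0 hS hcb hL hB
      (by simpa using hnorm)).2 hN3 (by linarith) hqN2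
  -- the exceptional characters occur
  set be := b (σ i₀) with hbe
  have hbz : ∀ x ∈ Z, b x = be := by
    intro x hxZ
    obtain ⟨i, -, rfl⟩ := Finset.mem_image.1 hxZ
    have h1 := (D.prop (σ i) (by rw [hMz _ hxZ]; exact hMe0)).1
    have h2' := (D.prop (σ i₀) hMe0).1
    have hne : n ≠ 0 := by
      rintro rfl
      have := D.pos (σ i₀)
      rw [zero_mul] at h2'
      omega
    exact mul_left_cancel₀ hne (by rw [← h1, hbe, ← h2', haσ i i₀])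
  have hsumZ : ∑ x ∈ Z, (M x : ℤ) * b x = N * (Me * be) := by
    rw [Finset.sum_congr rfl fun x hxZ => show (M x : ℤ) * b x = Me * be by
      rw [hMz x hxZ, hbz x hxZ], Finset.sum_const, nsmul_eq_mul, hZcard]
  rw [hsumZ] at hMbZ
  have hdvd : m ∣ 2 * be - (a₀ + 2 * q * ε) := by
    have h := hdv (σ i₀)
    rw [if_pos (hσZ i₀)] at h
    exact D.cong hMe0 h
  have hMW : ∑ x ∈ V, (M x : ℤ) * b x = 0 → ∀ x ∈ V, M x = 0 := fun h x hxV => by
    by_contra hne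
    have h' := (Finset.sum_eq_zero_iff_of_nonneg fun y _ => D.mb_nonneg y).1 h x hxV
    rcases mul_eq_zero.1 h' with e | e
    · exact hne (by exact_mod_cast e)
    · linarith [(D.prop x (Nat.pos_of_ne_zero hne)).2]
  have hLV : L = 0 → ∑ x ∈ V, (M x : ℤ) * b x = 0 := by
    intro h0
    rw [← D.drop (fun x => (M x : ℤ) * b x) hVx₀ hVx₁ (fun x h => by simp [h])]
    refine Finset.sum_eq_zero fun x hxW => ?_
    rcases Nat.eq_zero_or_pos (M x) with h | h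
    · simp [h]
    exfalso
    have hc0 : c x = 0 := pow_eq_zero_iff (two_ne_zero) |>.1
      ((Finset.sum_eq_zero_iff_of_nonneg fun y _ => sq_nonneg (c y)).1 h0 x hxW)
    obtain ⟨l, hl⟩ := D.cong h (hdW x hxW)
    rw [hc0, sub_zero] at hl
    have h1 := (D.prop x h).2
    have h2' := D.b_le h
    have hl0 : 0 < l := by nlinarith
    have hl2 : l < 2 := by nlinarith
    have hodd : Odd m := ⟨q * N, by rw [D.hm]; ring⟩
    obtain ⟨r, hr⟩ := hodd
    rw [show l = 1 by omega] at hl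
    omega
  have hVP : ∑ x ∈ V, (M x : ℤ) * b x = 0 → P + Q = 0 := fun h => by
    rw [← e2]
    exact Finset.sum_eq_zero fun x hxV => by simp [hMW h x hxV]
  have hMe1 : (1 : ℤ) ≤ Me := by exact_mod_cast hMe0
  obtain ⟨ha0, hbe0, hε1, hMe2⟩ := exc (Me := (Me : ℤ)) D.hm hqN' hε
    (show N * a₀ ^ 2 - 2 * ε * a₀ + L = 2 * q - 2 by linarith)
    (Finset.sum_nonneg fun x _ => sq_nonneg _) hMe1 (D.prop (σ i₀) hMe0).2
    (show 2 * q * N = N * ((Me : ℤ) * be) + ∑ x ∈ V, (M x : ℤ) * b x by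
      rw [D.hm] at hMbZ; linarith)
    (Finset.sum_nonneg fun y _ => D.mb_nonneg y) hdvd hLV hVP hnorm
  rw [ha0, hε1] at hB e1
  rw [show be = q from hbe0] at hMbZ
  have hβ : β = 2 - Me := mul_right_cancel₀ hm0 (by
    rw [D.hm] at hMbZ e1 ⊢
    linear_combination -e1 - 2 * hMbZ)
  exact exc_end (L := L) (q := q) (by omega) hβ hN3 hqN2 hT hTβ hP0 hP hQ hS0 hcs hcb hL
    (by linarith) hQ0 (le_of_eq_of_le (by ring) hB) hnorm

end Cfsg.Agent.Lib.BenderOne67.C2.Arith
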