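import Mathlib
import Cfsg.Agent.Lib.BenderOne8.Fixed
import Cfsg.Agent.Lib.BenderOne8.Transitive

/-!
# The configuration of the endgame of node C2: the involutions at `a` commute

`D = K⟨y⟩` with `K` inverted by the swapper `u` and regular on the involutions at `a`, and `y` of
prime order `q` fixed point free on `K`, centralising `u` and the involution `t`.
-/

set_option autoImplicit false
set_option linter.style.haveILetI false
set_option linter.unusedSectionVars false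

namespace Cfsg.Agent.Lib.BenderOne67.C2

open MulAction Cfsg.Agent.Lib.Involutions.Basic
open Cfsg.Agent.Lib.BenderOne20
open Cfsg.Agent.Lib.BenderOne8 (PropF)

universe u₁ u₂

variable {G : Type u₁} {Ω : Type u₂} [Group G] [MulAction G Ω]

/-- The configuration. -/
structure Hyp (G : Type u₁) {Ω : Type u₂} [Group G] [MulAction G Ω] (a b : Ω) (t u y : G)
    (K : Subgroup G) (q : ℕ) : Prop where
  fix : OneFix G Ω
  propF : PropF G Ω
  ne : b ≠ a
  two : ∀ x z : Ω, x ≠ a → z ≠ a → ∃ h : G, h • a = a ∧ h • x = z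
  comm : ∀ s ∈ invAt G a, ∀ r ∈ invAt G a, s * r = r * s
  ht : t ∈ invAt G a
  hu : u ∈ swapSet G a b
  prime : q.Prime
  le : K ≤ pairStab G a b
  commK : ∀ k ∈ K, ∀ k' ∈ K, k * k' = k' * k
  inv : ∀ k ∈ K, u * k * u⁻¹ = k⁻¹
  hy : y ∈ pairStab G a b
  ordy : orderOf y = q
  yt : y * t = t * y
  yu : y * u = u * y
  norm : ∀ k ∈ K, y * k * y⁻¹ ∈ K
  fpf : ∀ k ∈ K, y * k = k * y → k = 1
  gen : ∀ d ∈ pairStab G a b, ∃ k ∈ K, ∃ i : ℕ, d = k * y ^ i
  trans : ∀ s ∈ invAt G a, ∃ k ∈ K, k * t * k⁻¹ = s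
  free : ∀ k ∈ K, k * t = t * k → k = 1
  card : Nat.card (invAt G a) = 2 ^ q - 1

namespace Hyp

variable [Finite G] {a b : Ω} {t u y : G} {K : Subgroup G} {q : ℕ} (P : Hyp G a b t u y K q)
include P

theorem odd_K : Odd (Nat.card K) :=
  (P.fix.odd_pairStab P.ne.symm).of_dvd_nat (Subgroup.card_dvd_of_le P.le)

theorem odd_q : Odd q := by
  rw [← P.ordy]
  exact (P.fix.odd_pairStab P.ne.symm).of_dvd_nat (Subgroup.orderOf_dvd_natCard _ P.hy)

theorem three_le_q : 3 ≤ q := by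
  obtain ⟨i, hi⟩ := P.odd_q
  have := P.prime.two_le
  omega

theorem conj_mem_invAt {g : G} (hg : g • a = a) {s : G} (hs : s ∈ invAt G a) :
    g * s * g⁻¹ ∈ invAt G a := by
  have h := OneFix.conj_mem_invAt (g := g) hs
  rwa [hg] at h

theorem smul_a {k : G} (hk : k ∈ K) : k • a = a :=
  (P.le hk).1

theorem smul_b {k : G} (hk : k ∈ K) : k • b = b :=
  (P.le hk).2

theorem card_K : Nat.card K = 2 ^ q - 1 := by
  rw [← P.card]
  refine Nat.card_eq_of_bijective
    (fun k : K => (⟨k * t * (k : G)⁻¹, P.conj_mem_invAt (P.smul_a k.2) P.ht⟩ : invAt G a))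
    ⟨fun k k' h => ?_, fun s => ?_⟩
  · have h' : (k : G) * t * (k : G)⁻¹ = k' * t * (k' : G)⁻¹ := congrArg Subtype.val h
    have h1 : ((k' : G)⁻¹ * k) * t = t * ((k' : G)⁻¹ * k) := by
      calc ((k' : G)⁻¹ * k) * t = (k' : G)⁻¹ * (k * t * (k : G)⁻¹) * k := by group
        _ = t * ((k' : G)⁻¹ * k) := by rw [h']; group
    exact Subtype.ext (inv_mul_eq_one.1 (P.free _ (mul_mem (inv_mem k'.2) k.2) h1)).symm
  · obtain ⟨k, hk, hks⟩ := P.trans s s.2
    exact ⟨⟨k, hk⟩, Subtype.ext hks⟩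

theorem seven_le : 7 ≤ Nat.card K := by
  rw [P.card_K]
  have := Nat.pow_le_pow_right (show 1 ≤ 2 by norm_num) P.three_le_q
  omega

theorem exists_ne_one : ∃ k ∈ K, k ≠ 1 := by
  have : 1 < Nat.card K := by have := P.seven_le; omega
  haveI := Finite.one_lt_card_iff_nontrivial.1 this
  obtain ⟨k, hk⟩ := exists_ne (1 : K)
  exact ⟨k, k.2, fun h => hk (Subtype.ext h)⟩

theorem y_pow_mem (i : ℕ) : y ^ i ∈ pairStab G a b :=
  pow_mem P.hy i

theorem y_pow_t (i : ℕ) : y ^ i * t = t * y ^ i :=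
  ((show Commute y t from P.yt).pow_left i).eq

theorem y_pow_u (i : ℕ) : y ^ i * u = u * y ^ i :=
  ((show Commute y u from P.yu).pow_left i).eq

theorem y_pow_norm (i : ℕ) {k : G} (hk : k ∈ K) : y ^ i * k * (y ^ i)⁻¹ ∈ K := by
  induction i with
  | zero => simpa using hk
  | succ i ih =>
    have := P.norm _ ih
    rwa [show y * (y ^ i * k * (y ^ i)⁻¹) * y⁻¹ = y ^ (i + 1) * k * (y ^ (i + 1))⁻¹ by
      rw [pow_succ']; group] at this

/-- A non-trivial power of `y` is fixed point free on `K`. -/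
theorem fpf_pow {i : ℕ} {k : G} (hk : k ∈ K) (h : y ^ i * k = k * y ^ i) (hi : y ^ i ≠ 1) :
    k = 1 := by
  refine P.fpf k hk ?_
  have hmem : y ∈ Subgroup.zpowers (y ^ i) := by
    haveI := Fact.mk P.prime
    have ho : orderOf (y ^ i) = q := orderOf_eq_prime (by
      rw [← pow_mul, mul_comm, pow_mul, ← P.ordy, pow_orderOf_eq_one, one_pow]) hi
    rw [Subgroup.eq_of_le_of_card_ge (H := Subgroup.zpowers (y ^ i)) (K := Subgroup.zpowers y)
      (Subgroup.zpowers_le.2 (pow_mem (Subgroup.mem_zpowers y) i))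
      (by rw [Nat.card_zpowers, Nat.card_zpowers, ho, P.ordy])]
    exact Subgroup.mem_zpowers y
  obtain ⟨j, hj⟩ := Subgroup.mem_zpowers_iff.1 hmem
  rw [← hj]
  exact ((show Commute (y ^ i) k from h).zpow_left j).eq

/-- The centraliser of `t` in the two point stabiliser is `⟨y⟩`. -/
theorem exists_pow_of_comm {d : G} (hd : d ∈ pairStab G a b) (h : d * t = t * d) :
    ∃ i : ℕ, d = y ^ i := by
  obtain ⟨k, hk, i, rfl⟩ := P.gen d hd
  refine ⟨i, ?_⟩
  have h1 : k * t = t * k := by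
    have := P.y_pow_t i
    calc k * t = k * (t * y ^ i) * (y ^ i)⁻¹ := by group
      _ = (k * y ^ i * t) * (y ^ i)⁻¹ := by rw [← this]; group
      _ = t * k := by rw [h]; group
  rw [P.free k hk h1, one_mul]

/-- A non-trivial element of `K` fixes only `a` and `b`. -/
theorem fix_pair {k : G} (hk : k ∈ K) (hk1 : k ≠ 1) {e : Ω} (he : k • e = e) : e = a ∨ e = b :=
  BenderOne8.eq_or_eq_of_inverted P.fix P.propF P.ne.symm P.hu (P.le hk) hk1 (P.inv k hk) he

theorem u_conj_inv {k : G} (hk : k ∈ K) : u * k⁻¹ * u⁻¹ = k := by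
  rw [P.inv _ (inv_mem hk), inv_inv]

/-- An element carrying a non-trivial element of `K` into `K` is in `D` or `uD`. -/
theorem mem_or {g k k' : G} (hk : k ∈ K) (hk1 : k ≠ 1) (hk' : k' ∈ K) (h : g * k * g⁻¹ = k') :
    g ∈ pairStab G a b ∨ u * g ∈ pairStab G a b := by
  have hne : k' ≠ 1 := fun e => hk1 (conj_eq_one_iff.1 (h.trans e))
  have hfix : ∀ x : Ω, k • x = x → g • x = a ∨ g • x = b := fun x hx => P.fix_pair hk' hne (by
    rw [← h, mul_smul, mul_smul, inv_smul_smul, hx])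
  have hga := hfix a (P.smul_a hk)
  have hgb := hfix b (P.smul_b hk)
  have hinj := MulAction.injective (α := G) (β := Ω) g
  rcases hga with hga | hga
  · refine Or.inl ⟨hga, hgb.resolve_left fun e => P.ne (hinj (e.trans hga.symm))⟩
  · refine Or.inr ⟨?_, ?_⟩
    · show (u * g) • a = a
      rw [mul_smul, hga, smul_swap P.hu]
    · show (u * g) • b = b
      rw [mul_smul, hgb.resolve_right fun e => P.ne (hinj (e.trans hga.symm)), P.hu.2]

/-- `K` is the centraliser of each of its non-trivial elements. -/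
theorem cen_K {g k : G} (hk : k ∈ K) (hk1 : k ≠ 1) (h : g * k = k * g) : g ∈ K := by
  have hgk : g * k * g⁻¹ = k := mul_inv_eq_iff_eq_mul.2 h
  have hu2 := invol_mul_self P.hu.1
  rcases P.mem_or hk hk1 hk hgk with hd | hd
  · obtain ⟨l, hl, i, rfl⟩ := P.gen g hd
    by_cases hi : y ^ i = 1
    · rwa [hi, mul_one]
    refine absurd (P.fpf_pow hk ?_ hi) hk1
    calc y ^ i * k = l⁻¹ * (l * y ^ i * k) := by group
      _ = l⁻¹ * (k * l) * y ^ i := by rw [h]; group
      _ = k * y ^ i := by rw [← P.commK l hl k hk]; group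
  · obtain ⟨l, hl, i, hd'⟩ := P.gen _ hd
    -- `u g` inverts `k`
    have h1 : (u * g) * k * (u * g)⁻¹ = k⁻¹ := by
      calc (u * g) * k * (u * g)⁻¹ = u * (g * k * g⁻¹) * u⁻¹ := by group
        _ = k⁻¹ := by rw [hgk, P.inv k hk]
    rw [hd'] at h1
    have h2 : y ^ i * k * (y ^ i)⁻¹ = k⁻¹ := by
      calc y ^ i * k * (y ^ i)⁻¹ = l⁻¹ * (l * y ^ i * k * (l * y ^ i)⁻¹) * l := by group
        _ = l⁻¹ * (k⁻¹ * l) := by rw [h1]; group
        _ = k⁻¹ := by rw [← P.commK l hl _ (inv_mem hk)]; group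
    have h3 : y ^ (i + i) * k = k * y ^ (i + i) := by
      refine mul_inv_eq_iff_eq_mul.1 ?_
      calc y ^ (i + i) * k * (y ^ (i + i))⁻¹
          = y ^ i * (y ^ i * k * (y ^ i)⁻¹) * (y ^ i)⁻¹ := by rw [pow_add]; group
        _ = y ^ i * k⁻¹ * (y ^ i)⁻¹ := by rw [h2]
        _ = (y ^ i * k * (y ^ i)⁻¹)⁻¹ := by group
        _ = k := by rw [h2, inv_inv]
    by_cases hi : y ^ (i + i) = 1
    · -- then `y ^ i = 1` and `k` is an involution
      have hyi : y ^ i = 1 := by
        have h4 : orderOf y ∣ i * 2 := by rw [← mul_two] at hi; exact orderOf_dvd_of_pow_eq_one hi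
        rw [P.ordy] at h4
        exact orderOf_dvd_iff_pow_eq_one.1 (P.ordy ▸
          (Nat.coprime_two_right.2 P.odd_q).dvd_of_dvd_mul_right h4)
      rw [hyi, one_mul, inv_one, mul_one] at h2
      exfalso
      have h5 : orderOf k ∣ 2 := orderOf_dvd_of_pow_eq_one (by
        rw [pow_two]; exact mul_eq_one_iff_eq_inv.2 h2)
      have h6 := P.odd_K.of_dvd_nat (Subgroup.orderOf_dvd_natCard _ hk)
      rcases (Nat.dvd_prime Nat.prime_two).1 h5 with h7 | h7
      · exact hk1 (orderOf_eq_one_iff.1 h7)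
      · rw [h7] at h6; exact absurd h6 (by decide)
    · exact absurd (P.fpf_pow hk h3 hi) hk1

end Hyp

end Cfsg.Agent.Lib.BenderOne67.C2
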