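import Mathlib
import Cfsg.Agent.Lib.BenderOne67.C2.Setup
import Cfsg.Agent.Lib.Characters.Complete
import Cfsg.Agent.Lib.Characters.Linear

/-!
# Endgame of node C2: the multiplicities at the characters of `K`

`W = ⟨y u⟩` acts freely on the non-trivial elements and characters of `K` and controls their
fusion, so the second orthogonality relation gives all products of the columns of multiplicities.
-/

set_option autoImplicit false
set_option linter.style.haveILetI false
set_option linter.unusedSectionVars false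

namespace Cfsg.Agent.Lib.BenderOne67.C2

open MulAction Cfsg.Agent.Lib.Involutions.Basic
open Cfsg.Agent.Lib.BenderOne20
open Cfsg.Agent.Lib.Characters.Basic Cfsg.Agent.Lib.Characters.Complete
open Cfsg.Agent.Lib.Induced.Basic
open scoped ComplexConjugate Classical

universe u₁ u₂

namespace Hyp

variable {G : Type u₁} {Ω : Type u₂} [Group G] [MulAction G Ω] [Finite G] {a b : Ω} {t u y : G}
  {K : Subgroup G} {q : ℕ} (P : Hyp G a b t u y K q)
include P

theorem order_w : orderOf (y * u) = 2 * q := by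
  rw [(show Commute y u from P.yu).orderOf_mul_eq_mul_orderOf_of_coprime, P.ordy, P.hu.1, mul_comm]
  rw [P.ordy, P.hu.1]
  exact Nat.coprime_two_right.2 P.odd_q

theorem card_W : Nat.card (Subgroup.zpowers (y * u)) = 2 * q := by
  rw [Nat.card_zpowers, P.order_w]

theorem w_pow (i : ℕ) : (y * u) ^ i = y ^ i * u ^ i :=
  (show Commute y u from P.yu).mul_pow i

theorem u_mem_W : u ∈ Subgroup.zpowers (y * u) := by
  refine ⟨(q : ℤ), ?_⟩
  simp only [zpow_natCast]
  obtain ⟨j, hj⟩ := P.odd_q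
  have hy : y ^ q = 1 := P.ordy ▸ pow_orderOf_eq_one y
  rw [P.w_pow, hy, one_mul, hj, pow_succ, pow_mul, pow_two, invol_mul_self P.hu.1, one_pow,
    one_mul]

theorem y_mem_W : y ∈ Subgroup.zpowers (y * u) := by
  have h := mul_mem (Subgroup.mem_zpowers (y * u)) (inv_mem P.u_mem_W)
  rwa [mul_inv_cancel_right] at h

theorem commute_u {h : G} (hh : h ∈ Subgroup.zpowers (y * u)) : h * u = u * h := by
  obtain ⟨i, rfl⟩ := Subgroup.mem_zpowers_iff.1 hh
  exact (((show Commute y u from P.yu).mul_left (Commute.refl u)).zpow_left i).eq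

theorem W_le : Subgroup.zpowers (y * u) ≤ Subgroup.normalizer (K : Set G) := by
  rw [Subgroup.zpowers_le, Subgroup.mem_normalizer_iff_map_conj_eq]
  refine Subgroup.eq_of_le_of_card_ge ?_
    (Subgroup.card_map_of_injective (MulAut.conj (y * u)).injective).ge
  rintro _ ⟨k, hk, rfl⟩
  show y * u * k * (y * u)⁻¹ ∈ K
  rw [show y * u * k * (y * u)⁻¹ = y * (u * k * u⁻¹) * y⁻¹ by group, P.inv k hk]
  exact P.norm _ (inv_mem hk)

/-- `W` acts freely on the non-trivial elements of `K`. -/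
theorem eq_one_of_fix {h k : G} (hh : h ∈ Subgroup.zpowers (y * u)) (hk : k ∈ K) (hk1 : k ≠ 1)
    (e : h * k * h⁻¹ = k) : h = 1 := by
  have hK := P.cen_K hk hk1 (mul_inv_eq_iff_eq_mul.1 e)
  have h1 : h⁻¹ = h := by
    rw [← P.inv h hK, ← P.commute_u hh, mul_inv_cancel_right]
  have h2 : orderOf h ∣ 2 := orderOf_dvd_of_pow_eq_one (by
    rw [pow_two]; exact mul_eq_one_iff_eq_inv.2 h1.symm)
  rcases (Nat.dvd_prime Nat.prime_two).1 h2 with h3 | h3
  · exact orderOf_eq_one_iff.1 h3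
  · have := P.odd_K.of_dvd_nat (Subgroup.orderOf_dvd_natCard _ hK)
    rw [h3] at this
    exact absurd this (by decide)

/-- `W` controls the fusion in `K`. -/
theorem exists_W {g k k' : G} (hk : k ∈ K) (hk1 : k ≠ 1) (hk' : k' ∈ K) (e : g * k * g⁻¹ = k') :
    ∃ h ∈ Subgroup.zpowers (y * u), h * k * h⁻¹ = k' := by
  rcases P.mem_or hk hk1 hk' e with hd | hd
  · obtain ⟨l, hl, i, rfl⟩ := P.gen g hd
    refine ⟨y ^ i, pow_mem P.y_mem_W i, ?_⟩
    calc y ^ i * k * (y ^ i)⁻¹ = l⁻¹ * (l * y ^ i * k * (l * y ^ i)⁻¹) * l := by group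
      _ = k' := by rw [e, mul_assoc l⁻¹, P.commK k' hk' l hl, inv_mul_cancel_left]
  · obtain ⟨l, hl, i, hd'⟩ := P.gen _ hd
    refine ⟨u * y ^ i, mul_mem P.u_mem_W (pow_mem P.y_mem_W i), ?_⟩
    have h1 : l * (y ^ i * k * (y ^ i)⁻¹) * l⁻¹ = k'⁻¹ := by
      calc l * (y ^ i * k * (y ^ i)⁻¹) * l⁻¹ = (l * y ^ i) * k * (l * y ^ i)⁻¹ := by group
        _ = u * (g * k * g⁻¹) * u⁻¹ := by rw [← hd']; group
        _ = k'⁻¹ := by rw [e, P.inv k' hk']
    calc u * y ^ i * k * (u * y ^ i)⁻¹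
        = u * (l⁻¹ * (l * (y ^ i * k * (y ^ i)⁻¹) * l⁻¹) * l) * u⁻¹ := by group
      _ = k' := by rw [h1, mul_assoc l⁻¹, P.commK _ (inv_mem hk') l hl, inv_mul_cancel_left,
            P.u_conj_inv hk']

/-- Conjugation of `K` by an element of `W`. -/
noncomputable def cj (h : Subgroup.zpowers (y * u)) : K ≃* K :=
  K.normalizerMonoidHom ⟨h, P.W_le h.2⟩

theorem coe_cj (h : Subgroup.zpowers (y * u)) (k : K) :
    ((P.cj h k : K) : G) = h * k * (h : G)⁻¹ :=
  rfl

/-- A character of `K` conjugated by an element of `W`. -/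
noncomputable def tw (lam : K →* ℂˣ) (h : Subgroup.zpowers (y * u)) : K →* ℂˣ :=
  lam.comp (P.cj h).toMonoidHom

theorem tw_apply (lam : K →* ℂˣ) (h : Subgroup.zpowers (y * u)) (k : K) :
    P.tw lam h k = lam (P.cj h k) :=
  rfl

theorem tw_one (lam : K →* ℂˣ) : P.tw lam 1 = lam := by
  refine MonoidHom.ext fun k => ?_
  rw [P.tw_apply]
  congr 1
  exact Subtype.ext (by rw [P.coe_cj]; simp)

theorem tw_mul (lam : K →* ℂˣ) (g h : Subgroup.zpowers (y * u)) :
    P.tw (P.tw lam g) h = P.tw lam (g * h) := by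
  refine MonoidHom.ext fun k => ?_
  simp only [P.tw_apply]
  congr 1
  refine Subtype.ext ?_
  simp only [P.coe_cj, Subgroup.coe_mul]
  group

theorem one_tw (h : Subgroup.zpowers (y * u)) : P.tw 1 h = 1 :=
  MonoidHom.ext fun _ => rfl

/-- `W` acts freely on the non-trivial characters of `K`. -/
theorem eq_one_of_tw {lam : K →* ℂˣ} (hlam : lam ≠ 1) {h : Subgroup.zpowers (y * u)}
    (e : P.tw lam h = lam) : h = 1 := by
  by_contra hne
  refine hlam (MonoidHom.ext fun k => ?_)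
  have hinj : Function.Injective fun x : K => P.cj h x * x⁻¹ := by
    intro x x' hx
    have hx' : ((h : G) * x * (h : G)⁻¹) * (x : G)⁻¹ = (h : G) * x' * (h : G)⁻¹ * (x' : G)⁻¹ := by
      simpa [P.coe_cj] using congrArg Subtype.val hx
    by_contra hxx
    refine hne (Subtype.ext (P.eq_one_of_fix h.2 (mul_mem (inv_mem x'.2) x.2)
      (fun e => hxx (Subtype.ext (inv_mul_eq_one.1 e)).symm) ?_))
    calc (h : G) * ((x' : G)⁻¹ * x) * (h : G)⁻¹
        = ((h : G) * x' * (h : G)⁻¹)⁻¹ * ((h : G) * x * (h : G)⁻¹ * (x : G)⁻¹) * x := by group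
      _ = ((x' : G))⁻¹ * x := by rw [hx']; group
  obtain ⟨x, rfl⟩ := Finite.surjective_of_injective hinj k
  rw [MonoidHom.one_apply, map_mul, map_inv, ← P.tw_apply, e, mul_inv_cancel]

end Hyp

end Cfsg.Agent.Lib.BenderOne67.C2
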