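import Mathlib
import Cfsg.Agent.Lib.BenderOne67.C2.Twist

/-!
# Endgame of node C2: products of the columns of multiplicities at `K`

`mult χ λ` is the multiplicity of the character `λ` of `K` in the restriction of `χ`.
-/

set_option autoImplicit false
set_option linter.style.haveILetI false
set_option linter.unusedSectionVars false

namespace Cfsg.Agent.Lib.BenderOne67.C2

open MulAction Cfsg.Agent.Lib.Involutions.Basic
open Cfsg.Agent.Lib.BenderOne20
open Cfsg.Agent.Lib.Characters.Basic Cfsg.Agent.Lib.Characters.Complete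
open Cfsg.Agent.Lib.Characters.Linear
open Cfsg.Agent.Lib.Induced.Basic
open scoped ComplexConjugate Classical

universe u₁ u₂

variable {G : Type u₁} [Group G] [Fintype G] (K : Subgroup G)

theorem exists_mult (χ : Cfsg.IrrCharacter G) (lam : K →* ℂˣ) :
    ∃ v : ℕ, Cfsg.classInner (fun k : K => (χ : G → ℂ) k) (linChar lam : K → ℂ) = v :=
  exists_classInner_nat (isCharacter_comp K.subtype (isCharacter_irr χ)) (isCharacter_irr _)

/-- The multiplicity of a linear character of `K` in the restriction of an irreducible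
character. -/
noncomputable def mult (χ : Cfsg.IrrCharacter G) (lam : K →* ℂˣ) : ℕ :=
  (exists_mult K χ lam).choose

theorem mult_spec (χ : Cfsg.IrrCharacter G) (lam : K →* ℂˣ) :
    (mult K χ lam : ℂ) =
      (Nat.card K : ℂ)⁻¹ * ∑ k : K, (χ : G → ℂ) k * conj ((lam k : ℂ)) :=
  (exists_mult K χ lam).choose_spec.symm

theorem mult_spec' (χ : Cfsg.IrrCharacter G) (lam : K →* ℂˣ) :
    (mult K χ lam : ℂ) =
      (Nat.card K : ℂ)⁻¹ * ∑ k : K, conj ((χ : G → ℂ) k) * (lam k : ℂ) := by
  have h := congrArg conj (mult_spec K χ lam)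
  simpa [map_sum] using h

namespace Hyp

variable {Ω : Type u₂} [MulAction G Ω] {a b : Ω} {t u y : G} {K} {q : ℕ}
  [Fintype (Cfsg.IrrCharacter G)] (P : Hyp G a b t u y K q)
include P

omit [Fintype (Cfsg.IrrCharacter G)] in
theorem sum_conj_mul (lam mu : K →* ℂˣ) :
    ∑ k : K, conj ((lam k : ℂ)) * (mu k : ℂ) = if lam = mu then (Nat.card K : ℂ) else 0 := by
  have h := classInner_irr (linChar mu) (linChar lam)
  rw [Cfsg.classInner, inv_mul_eq_iff_eq_mul₀ natCard_ne_zero] at h
  simp only [linChar_apply] at h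
  rw [Finset.sum_congr rfl fun k _ => mul_comm (conj ((lam k : ℂ))) (mu k : ℂ), h]
  by_cases e : lam = mu
  · subst e; simp
  · rw [if_neg e, if_neg fun e' => e (linChar_injective e').symm, mul_zero]

/-- The second orthogonality relation on `K`. -/
theorem sum_irr_K (k k' : K) :
    ∑ χ : Cfsg.IrrCharacter G, (χ : G → ℂ) k * conj ((χ : G → ℂ) k') =
      (if k = 1 ∧ k' = 1 then (Nat.card G : ℂ) - 2 * q * Nat.card K else 0) +
        (Nat.card K : ℂ) *
          ∑ h : Subgroup.zpowers (y * u), if P.cj h k = k' then (1 : ℂ) else 0 := by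
  rw [sum_irr_mul_conj]
  by_cases hk : k = 1
  · subst hk
    have hG : Nat.card (Subgroup.centralizer ({((1 : K) : G)} : Set G)) = Nat.card G := by
      rw [show Subgroup.centralizer ({((1 : K) : G)} : Set G) = ⊤ from
        eq_top_iff.2 fun g _ => Subgroup.mem_centralizer_singleton_iff.2 (by simp)]
      exact Subgroup.card_top
    simp only [map_one, true_and]
    by_cases hk' : k' = 1
    · subst hk'
      rw [if_pos (IsConj.refl _), hG, if_pos rfl]
      simp only [if_pos, Finset.sum_const, Finset.card_univ, nsmul_eq_mul, mul_one]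
      rw [← Nat.card_eq_fintype_card, P.card_W]
      push_cast
      ring
    · have hne : ¬ IsConj ((1 : K) : G) (k' : G) := fun h => hk' (Subtype.ext (by
        obtain ⟨g, hg⟩ := isConj_iff.1 h
        simpa using hg.symm))
      rw [if_neg hne, if_neg hk', zero_add, Finset.sum_eq_zero fun h _ => if_neg (Ne.symm hk'),
        mul_zero]
  have hk1 : (k : G) ≠ 1 := fun e => hk (Subtype.ext e)
  rw [if_neg (c := k = 1 ∧ k' = 1) fun e => hk e.1, zero_add]
  have hcard : Nat.card (Subgroup.centralizer ({(k : G)} : Set G)) = Nat.card K := by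
    rw [show Subgroup.centralizer ({(k : G)} : Set G) = K from le_antisymm
      (fun g hg => P.cen_K k.2 hk1 (Subgroup.mem_centralizer_singleton_iff.1 hg))
      fun g hg => Subgroup.mem_centralizer_singleton_iff.2 (P.commK g hg k k.2)]
  by_cases hconj : IsConj (k : G) (k' : G)
  · obtain ⟨g, hg⟩ := isConj_iff.1 hconj
    obtain ⟨h, hh, e⟩ := P.exists_W k.2 hk1 k'.2 hg
    rw [if_pos hconj, hcard, Finset.sum_eq_single ⟨h, hh⟩, if_pos (Subtype.ext e), mul_one]
    · intro h' _ hne
      refine if_neg fun e' => hne (Subtype.ext ?_)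
      have e1 : (h' : G) * k * (h' : G)⁻¹ = k' := congrArg Subtype.val e'
      refine (inv_mul_eq_one.1 (P.eq_one_of_fix (mul_mem (inv_mem hh) h'.2) k.2 hk1 ?_)).symm
      calc h⁻¹ * (h' : G) * k * (h⁻¹ * (h' : G))⁻¹
          = h⁻¹ * ((h' : G) * k * (h' : G)⁻¹) * h := by group
        _ = (k : G) := by rw [e1, ← e]; group
    · exact fun h => absurd (Finset.mem_univ _) h
  · have hz : ∀ h : Subgroup.zpowers (y * u), ¬ P.cj h k = k' := fun h e =>
      hconj (isConj_iff.2 ⟨(h : G), by rw [← P.coe_cj, e]⟩)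
    rw [if_neg hconj, Finset.sum_eq_zero fun h _ => if_neg (hz h), mul_zero]

omit [Fintype (Cfsg.IrrCharacter G)] in
/-- The number of elements of `W` carrying `mu` to `lam`. -/
noncomputable def cnt (lam mu : K →* ℂˣ) : ℕ :=
  (Finset.univ.filter fun h : Subgroup.zpowers (y * u) => P.tw mu h = lam).card

/-- The product of two columns of multiplicities. -/
theorem sum_mult_mul (lam mu : K →* ℂˣ) :
    ∑ χ : Cfsg.IrrCharacter G, (mult K χ lam : ℂ) * mult K χ mu =
      ((Nat.card G : ℂ) - 2 * q * Nat.card K) / (Nat.card K : ℂ) ^ 2 + (P.cnt lam mu : ℂ) := by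
  set m : ℂ := (Nat.card K : ℂ) with hm
  have hm0 : m ≠ 0 := subgroup_card_ne_zero K
  calc ∑ χ : Cfsg.IrrCharacter G, (mult K χ lam : ℂ) * mult K χ mu
      = m⁻¹ * m⁻¹ * ∑ k : K, ∑ k' : K, (conj ((lam k : ℂ)) * (mu k' : ℂ)) *
          ∑ χ : Cfsg.IrrCharacter G, (χ : G → ℂ) k * conj ((χ : G → ℂ) k') := by
        simp only [mult_spec K _ lam, mult_spec' K _ mu, Finset.mul_sum, Finset.sum_mul, ← hm]
        conv_rhs => rw [Finset.sum_comm]
        rw [Finset.sum_comm]
        refine Finset.sum_congr rfl fun k _ => ?_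
        rw [Finset.sum_comm]
        refine Finset.sum_congr rfl fun k' _ => ?_
        exact Finset.sum_congr rfl fun χ _ => by ring
    _ = m⁻¹ * m⁻¹ * (((Nat.card G : ℂ) - 2 * q * m) +
          m * ∑ h : Subgroup.zpowers (y * u), ∑ k : K,
            conj ((lam k : ℂ)) * (P.tw mu h k : ℂ)) := by
        congr 1
        simp only [P.sum_irr_K, ← hm, mul_add, Finset.sum_add_distrib]
        congr 1
        · rw [Finset.sum_eq_single 1, Finset.sum_eq_single 1]
          · simp
          all_goals intros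
          · rw [if_neg (fun e => by tauto), mul_zero]
          · simp at *
          · exact Finset.sum_eq_zero fun k' _ => by rw [if_neg (fun e => by tauto), mul_zero]
          · simp at *
        · calc ∑ k : K, ∑ k' : K, (conj ((lam k : ℂ)) * (mu k' : ℂ)) *
                (m * ∑ h : Subgroup.zpowers (y * u), if P.cj h k = k' then (1 : ℂ) else 0)
              = ∑ k : K, ∑ h : Subgroup.zpowers (y * u),
                  m * (conj ((lam k : ℂ)) * (mu (P.cj h k) : ℂ)) := by
                refine Finset.sum_congr rfl fun k _ => ?_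
                simp only [Finset.mul_sum]
                rw [Finset.sum_comm]
                refine Finset.sum_congr rfl fun h _ => ?_
                simp
                ring
            _ = _ := by
                rw [Finset.sum_comm, Finset.mul_sum]
                exact Finset.sum_congr rfl fun h _ => by rw [Finset.mul_sum]; rfl
    _ = ((Nat.card G : ℂ) - 2 * q * m) / m ^ 2 + (P.cnt lam mu : ℂ) := by
        simp only [P.sum_conj_mul, ← hm]
        rw [Finset.sum_ite, Finset.sum_const_zero, add_zero, Finset.sum_const, nsmul_eq_mul,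
          Hyp.cnt, Finset.filter_congr fun h _ => eq_comm (a := lam) (b := P.tw mu h)]
        field_simp

theorem sum_sub_sq (lam mu : K →* ℂˣ) :
    ∑ χ : Cfsg.IrrCharacter G, ((mult K χ lam : ℤ) - mult K χ mu) ^ 2 =
      (P.cnt lam lam : ℤ) + P.cnt mu mu - P.cnt lam mu - P.cnt mu lam := by
  have h : (∑ χ : Cfsg.IrrCharacter G, ((mult K χ lam : ℂ) - mult K χ mu) ^ 2) =
      (P.cnt lam lam : ℂ) + P.cnt mu mu - P.cnt lam mu - P.cnt mu lam := by
    have e : ∀ χ : Cfsg.IrrCharacter G, ((mult K χ lam : ℂ) - mult K χ mu) ^ 2 =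
        (mult K χ lam : ℂ) * mult K χ lam + (mult K χ mu : ℂ) * mult K χ mu -
          (mult K χ lam : ℂ) * mult K χ mu - (mult K χ mu : ℂ) * mult K χ lam := fun χ => by ring
    simp only [e, Finset.sum_sub_distrib, Finset.sum_add_distrib, P.sum_mult_mul]
    ring
  exact_mod_cast h

theorem sum_sub_mul_sub (lam mu nu rho : K →* ℂˣ) :
    ∑ χ : Cfsg.IrrCharacter G, ((mult K χ lam : ℤ) - mult K χ mu) *
        ((mult K χ nu : ℤ) - mult K χ rho) =
      (P.cnt lam nu : ℤ) + P.cnt mu rho - P.cnt lam rho - P.cnt mu nu := by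
  have h : (∑ χ : Cfsg.IrrCharacter G, ((mult K χ lam : ℂ) - mult K χ mu) *
        ((mult K χ nu : ℂ) - mult K χ rho)) =
      (P.cnt lam nu : ℂ) + P.cnt mu rho - P.cnt lam rho - P.cnt mu nu := by
    have e : ∀ χ : Cfsg.IrrCharacter G, ((mult K χ lam : ℂ) - mult K χ mu) *
          ((mult K χ nu : ℂ) - mult K χ rho) =
        (mult K χ lam : ℂ) * mult K χ nu + (mult K χ mu : ℂ) * mult K χ rho -
          (mult K χ lam : ℂ) * mult K χ rho - (mult K χ mu : ℂ) * mult K χ nu := fun χ => by ring
    simp only [e, Finset.sum_sub_distrib, Finset.sum_add_distrib, P.sum_mult_mul]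
    ring
  exact_mod_cast h

/-- The degree against a column. -/
theorem sum_deg_mult (lam : K →* ℂˣ) :
    ∑ χ : Cfsg.IrrCharacter G, (χ : G → ℂ) 1 * mult K χ lam =
      (Nat.card G : ℂ) / Nat.card K := by
  simp only [mult_spec', Finset.mul_sum]
  rw [Finset.sum_comm, Finset.sum_eq_single 1]
  · have h := sum_irr_mul_conj (G := G) 1 1
    rw [if_pos (IsConj.refl 1), show Subgroup.centralizer ({1} : Set G) = ⊤ from
        eq_top_iff.2 fun g _ => Subgroup.mem_centralizer_singleton_iff.2 (by simp),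
      Subgroup.card_top] at h
    rw [← h, Finset.sum_div]
    refine Finset.sum_congr rfl fun χ _ => ?_
    simp [div_eq_mul_inv]
    ring
  · intro k _ hk
    have h := sum_irr_mul_conj (G := G) 1 (k : G)
    rw [if_neg fun e => hk (Subtype.ext (by
      obtain ⟨g, hg⟩ := isConj_iff.1 e
      simpa using hg.symm))] at h
    calc ∑ χ : Cfsg.IrrCharacter G,
          (χ : G → ℂ) 1 * ((Nat.card K : ℂ)⁻¹ * (conj ((χ : G → ℂ) k) * (lam k : ℂ)))
        = (Nat.card K : ℂ)⁻¹ * (lam k : ℂ) *
            ∑ χ : Cfsg.IrrCharacter G, (χ : G → ℂ) 1 * conj ((χ : G → ℂ) k) := by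
          rw [Finset.mul_sum]
          exact Finset.sum_congr rfl fun χ _ => by ring
      _ = 0 := by rw [h, mul_zero]
  · exact fun h => absurd (Finset.mem_univ _) h

omit [Fintype (Cfsg.IrrCharacter G)] in
theorem cnt_one_one : P.cnt 1 1 = 2 * q := by
  rw [Hyp.cnt, Finset.filter_true_of_mem fun h _ => P.one_tw h, Finset.card_univ,
    ← Nat.card_eq_fintype_card, P.card_W]

omit [Fintype (Cfsg.IrrCharacter G)] in
theorem cnt_eq_zero {lam mu : K →* ℂˣ}
    (h : ∀ w : Subgroup.zpowers (y * u), P.tw mu w ≠ lam) : P.cnt lam mu = 0 :=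
  Finset.card_eq_zero.2 (Finset.filter_eq_empty_iff.2 fun w _ => h w)

omit [Fintype (Cfsg.IrrCharacter G)] in
theorem cnt_self {lam : K →* ℂˣ} (hlam : lam ≠ 1) : P.cnt lam lam = 1 := by
  refine Finset.card_eq_one.2 ⟨1, Finset.ext fun h => ?_⟩
  simp only [Finset.mem_filter, Finset.mem_univ, true_and, Finset.mem_singleton]
  exact ⟨fun e => P.eq_one_of_tw hlam e, fun e => e ▸ P.tw_one lam⟩

omit [Fintype (Cfsg.IrrCharacter G)] in
/-- The multiplicities are constant on the orbits of `W`. -/
theorem mult_tw (χ : Cfsg.IrrCharacter G) (lam : K →* ℂˣ) (h : Subgroup.zpowers (y * u)) :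
    mult K χ (P.tw lam h) = mult K χ lam := by
  have e : (mult K χ (P.tw lam h) : ℂ) = mult K χ lam := by
    rw [mult_spec, mult_spec]
    congr 1
    refine Fintype.sum_equiv (P.cj h).toEquiv _ _ fun k => ?_
    show _ = (χ : G → ℂ) ((P.cj h k : K) : G) * conj ((lam (P.cj h k) : ℂ))
    rw [P.coe_cj, isClassFunction_irr χ (k : G) (h : G), P.tw_apply]
  exact_mod_cast e

omit [Fintype (Cfsg.IrrCharacter G)] in
theorem commutative : ∀ x x' : K, x * x' = x' * x := fun x x' =>
  Subtype.ext (P.commK x x.2 x' x'.2)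

omit [Fintype (Cfsg.IrrCharacter G)] in
/-- The degree is the sum of the multiplicities. -/
theorem sum_mult [Fintype (K →* ℂˣ)] (χ : Cfsg.IrrCharacter G) :
    ∑ lam : K →* ℂˣ, (mult K χ lam : ℂ) = (χ : G → ℂ) 1 := by
  letI := Fintype.ofFinite (Cfsg.IrrCharacter K)
  have hcl : Cfsg.IsClassFunction K (fun k : K => (χ : G → ℂ) k) :=
    isClassFunction_of_isCharacter (isCharacter_comp K.subtype (isCharacter_irr χ))
  have h := congrFun (classFunction_eq_sum hcl) (1 : K)
  simp only [Finset.sum_apply, Pi.smul_apply, smul_eq_mul, OneMemClass.coe_one] at h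
  rw [h]
  refine Fintype.sum_equiv ((linEquiv K).trans
    (Equiv.subtypeUnivEquiv (degree_eq_one_of_comm P.commutative))) _ _ fun lam => ?_
  show (mult K χ lam : ℂ) = Cfsg.classInner _ (linChar lam : K → ℂ) * (linChar lam : K → ℂ) 1
  rw [linChar_apply, map_one, Units.val_one, mul_one]
  exact (exists_mult K χ lam).choose_spec.symm

omit [Fintype (Cfsg.IrrCharacter G)] in
theorem card_dual : Nat.card (K →* ℂˣ) = Nat.card K := by
  rw [Nat.card_congr (linEquiv K), card_linear]
  rw [show commutator K = ⊥ from (commutator_eq_bot_iff K).2 ⟨⟨P.commutative⟩⟩,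
    Subgroup.index_bot]

end Hyp

end Cfsg.Agent.Lib.BenderOne67.C2
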