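import Mathlib
import Cfsg.Agent.Lib.BenderOne67.C2.Columns

/-!
# Endgame of node C2: the orbits of `W` on the non-trivial characters of `K`
-/

set_option autoImplicit false
set_option linter.style.haveILetI false
set_option linter.unusedSectionVars false

namespace Cfsg.Agent.Lib.BenderOne67.C2

open MulAction Cfsg.Agent.Lib.Involutions.Basic
open Cfsg.Agent.Lib.BenderOne20
open Cfsg.Agent.Lib.Characters.Basic
open scoped Classical

universe u₁ u₂

namespace Hyp

variable {G : Type u₁} [Group G] [Fintype G] {Ω : Type u₂} [MulAction G Ω] {a b : Ω} {t u y : G}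
  {K : Subgroup G} {q : ℕ} (P : Hyp G a b t u y K q)
include P

/-- Conjugacy of non-trivial characters under `W`. -/
def dualRel : Setoid {lam : K →* ℂˣ // lam ≠ 1} where
  r x z := ∃ h : Subgroup.zpowers (y * u), P.tw x.1 h = z.1
  iseqv :=
    { refl := fun x => ⟨1, P.tw_one _⟩
      symm := fun {x z} ⟨h, e⟩ => ⟨h⁻¹, by rw [← e, P.tw_mul, mul_inv_cancel, P.tw_one]⟩
      trans := fun {x z w} ⟨g, e⟩ ⟨h, e'⟩ => ⟨g * h, by rw [← P.tw_mul, e, e']⟩ }

/-- The orbits of `W` on the non-trivial characters. -/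
abbrev Idx : Type u₁ := Quotient P.dualRel

/-- A representative of an orbit. -/
noncomputable def rep (i : P.Idx) : K →* ℂˣ :=
  (Quotient.out i).1

theorem rep_ne (i : P.Idx) : P.rep i ≠ 1 :=
  (Quotient.out i).2

theorem tw_ne {lam : K →* ℂˣ} (h : lam ≠ 1) (w : Subgroup.zpowers (y * u)) : P.tw lam w ≠ 1 :=
  fun e => h (by rw [← P.tw_one lam, ← mul_inv_cancel w, ← P.tw_mul, e, P.one_tw])

theorem rep_inj {i j : P.Idx} {w : Subgroup.zpowers (y * u)} (e : P.tw (P.rep j) w = P.rep i) :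
    i = j := by
  have h : Quotient.mk P.dualRel (Quotient.out j) = Quotient.mk P.dualRel (Quotient.out i) :=
    Quotient.sound ⟨w, e⟩
  rwa [Quotient.out_eq, Quotient.out_eq, eq_comm] at h

theorem cnt_rep (i j : P.Idx) : P.cnt (P.rep i) (P.rep j) = if i = j then 1 else 0 := by
  split_ifs with h
  · subst h; exact P.cnt_self (P.rep_ne i)
  · exact P.cnt_eq_zero fun w e => h (P.rep_inj e)

theorem cnt_rep_one (i : P.Idx) : P.cnt (P.rep i) 1 = 0 :=
  P.cnt_eq_zero fun w e => P.rep_ne i (by rw [← e, P.one_tw])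

theorem cnt_one_rep (i : P.Idx) : P.cnt 1 (P.rep i) = 0 :=
  P.cnt_eq_zero fun w e => P.tw_ne (P.rep_ne i) w e

/-- The non-trivial characters are the free orbits of their representatives. -/
noncomputable def dualEquiv :
    P.Idx × Subgroup.zpowers (y * u) ≃ {lam : K →* ℂˣ // lam ≠ 1} :=
  Equiv.ofBijective (fun x => ⟨P.tw (P.rep x.1) x.2, P.tw_ne (P.rep_ne x.1) x.2⟩)
    ⟨fun x z h => by
      obtain ⟨i, g⟩ := x
      obtain ⟨j, w⟩ := z
      have e : P.tw (P.rep i) g = P.tw (P.rep j) w := congrArg Subtype.val h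
      have e2 : P.tw (P.rep j) (w * g⁻¹) = P.rep i := by
        rw [← P.tw_mul, ← e, P.tw_mul, mul_inv_cancel, P.tw_one]
      obtain rfl := P.rep_inj e2
      exact Prod.ext rfl (mul_inv_eq_one.1 (P.eq_one_of_tw (P.rep_ne i) e2)).symm,
    fun lam => by
      obtain ⟨w, hw⟩ := Quotient.exact (Quotient.out_eq (Quotient.mk P.dualRel lam))
      exact ⟨(Quotient.mk P.dualRel lam, w), Subtype.ext hw⟩⟩

theorem dualEquiv_apply (x : P.Idx × Subgroup.zpowers (y * u)) :
    (P.dualEquiv x).1 = P.tw (P.rep x.1) x.2 :=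
  rfl

variable [Fintype (K →* ℂˣ)] [Fintype P.Idx]

/-- There are `(m - 1) / 2q` orbits. -/
theorem card_Idx : 2 * q * Fintype.card P.Idx + 1 = Nat.card K := by
  have h := Nat.card_congr P.dualEquiv
  rw [Nat.card_prod, Nat.card_eq_fintype_card (α := P.Idx), P.card_W] at h
  have h2 : Nat.card {lam : K →* ℂˣ // lam ≠ 1} + 1 = Nat.card K := by
    rw [← P.card_dual, Nat.card_eq_fintype_card, Nat.card_eq_fintype_card (α := K →* ℂˣ),
      Fintype.card_subtype_compl, Fintype.card_subtype_eq]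
    have := Fintype.card_pos (α := K →* ℂˣ)
    omega
  rw [← h2, ← h, mul_comm]

variable [Fintype (Cfsg.IrrCharacter G)]

/-- The degree in terms of the multiplicities at the representatives. -/
theorem deg_eq (χ : Cfsg.IrrCharacter G) :
    (χ : G → ℂ) 1 = (mult K χ 1 : ℂ) + 2 * q * ∑ i : P.Idx, (mult K χ (P.rep i) : ℂ) := by
  rw [← P.sum_mult χ, ← Finset.add_sum_erase _ _ (Finset.mem_univ (1 : K →* ℂˣ))]
  congr 1
  rw [Finset.sum_subtype (Finset.univ.erase (1 : K →* ℂˣ))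
    (p := fun lam => lam ≠ 1) (fun lam => by simp), Finset.mul_sum]
  rw [← P.dualEquiv.sum_comp, Fintype.sum_prod_type]
  refine Finset.sum_congr rfl fun i _ => ?_
  simp only [P.dualEquiv_apply, P.mult_tw]
  rw [Finset.sum_const, Finset.card_univ, ← Nat.card_eq_fintype_card, P.card_W, nsmul_eq_mul]
  push_cast
  ring

theorem dist (i j : P.Idx) (h : i ≠ j) :
    ∑ χ : Cfsg.IrrCharacter G, ((mult K χ (P.rep i) : ℤ) - mult K χ (P.rep j)) ^ 2 = 2 := by
  rw [P.sum_sub_sq, P.cnt_rep, P.cnt_rep, P.cnt_rep, P.cnt_rep, if_pos rfl, if_pos rfl,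
    if_neg h, if_neg (Ne.symm h)]
  norm_num

theorem sq_sum :
    ∑ χ : Cfsg.IrrCharacter G, ((Fintype.card P.Idx : ℤ) * mult K χ 1 -
        ∑ i : P.Idx, (mult K χ (P.rep i) : ℤ)) ^ 2 =
      (Nat.card K : ℤ) * Fintype.card P.Idx := by
  have e : ∀ χ : Cfsg.IrrCharacter G, ((Fintype.card P.Idx : ℤ) * mult K χ 1 -
        ∑ i : P.Idx, (mult K χ (P.rep i) : ℤ)) =
      ∑ i : P.Idx, ((mult K χ 1 : ℤ) - mult K χ (P.rep i)) := fun χ => by
    rw [Finset.sum_sub_distrib, Finset.sum_const, Finset.card_univ, nsmul_eq_mul]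
  simp only [e, pow_two, Finset.sum_mul_sum]
  rw [Finset.sum_comm]
  calc ∑ i : P.Idx, ∑ χ : Cfsg.IrrCharacter G, ∑ j : P.Idx,
        ((mult K χ 1 : ℤ) - mult K χ (P.rep i)) * ((mult K χ 1 : ℤ) - mult K χ (P.rep j))
      = ∑ i : P.Idx, ∑ j : P.Idx, ((2 * q : ℤ) + if i = j then 1 else 0) := by
        refine Finset.sum_congr rfl fun i _ => ?_
        rw [Finset.sum_comm]
        refine Finset.sum_congr rfl fun j _ => ?_
        rw [P.sum_sub_mul_sub, P.cnt_one_one, P.cnt_rep, P.cnt_one_rep, P.cnt_rep_one]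
        push_cast
        ring
    _ = (Nat.card K : ℤ) * Fintype.card P.Idx := by
        simp only [Finset.sum_add_distrib, Finset.sum_ite_eq, Finset.mem_univ, if_true,
          Finset.sum_const, Finset.card_univ, nsmul_eq_mul, ← P.card_Idx]
        push_cast
        ring

theorem orth (i j : P.Idx) :
    ∑ χ : Cfsg.IrrCharacter G,
      (χ : G → ℂ) 1 * ((mult K χ (P.rep i) : ℂ) - mult K χ (P.rep j)) = 0 := by
  simp only [mul_sub, Finset.sum_sub_distrib, P.sum_deg_mult, sub_self]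

end Hyp

end Cfsg.Agent.Lib.BenderOne67.C2
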