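import Mathlib
import Cfsg.Agent.Lib.Characters.Transitive

/-!
# Products of two permutation characters
-/

set_option autoImplicit false
set_option linter.style.haveILetI false

namespace Cfsg.Agent.Lib.BenderOne67.C2.Perm

open MulAction
open Cfsg.Agent.Lib.Characters.Transitive Cfsg.Agent.Lib.Characters.Basic
open Cfsg.Agent.Lib.Induced.Basic
open scoped ComplexConjugate Classical

universe u₁ u₂ u₃

variable {G : Type u₁} [Group G] [Fintype G]

/-- The product of two permutation characters counts the orbits on pairs. -/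
theorem classInner_permChar₂ (X : Type u₂) (Z : Type u₃) [MulAction G X] [Finite X]
    [MulAction G Z] [Finite Z] :
    Cfsg.classInner (permChar X : G → ℂ) (permChar Z) =
      (Nat.card (orbitRel.Quotient G (X × Z)) : ℂ) := by
  have h : ∀ g : G, permChar X g * conj (permChar Z g) = permChar (X × Z) g := by
    intro g
    simp only [permChar, map_natCast, ← Nat.cast_mul, ← Nat.card_prod]
    congr 1
    exact Nat.card_congr
      { toFun := fun a => ⟨(a.1.1, a.2.1), Prod.ext a.1.2 a.2.2⟩
        invFun := fun a => (⟨a.1.1, congrArg Prod.fst a.2⟩, ⟨a.1.2, congrArg Prod.snd a.2⟩)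
        left_inv := fun _ => rfl
        right_inv := fun _ => rfl }
  rw [Cfsg.classInner, Finset.sum_congr rfl fun g _ => h g, sum_permChar, mul_comm (_ : ℂ)
    (Nat.card G : ℂ), ← mul_assoc, inv_mul_cancel₀ natCard_ne_zero, one_mul]

omit [Fintype G] in
/-- With a transitive first factor these are the orbits of a stabiliser on the second. -/
theorem card_orbits_prod {X : Type u₂} (Z : Type u₃) [MulAction G X] [MulAction G Z]
    [IsPretransitive G X] (x₀ : X) :
    Nat.card (orbitRel.Quotient G (X × Z)) =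
      Nat.card (orbitRel.Quotient (stabilizer G x₀) Z) := by
  refine (Nat.card_eq_of_bijective (Quotient.lift (fun z => Quotient.mk (orbitRel G (X × Z)) (x₀, z))
    ?_) ⟨?_, ?_⟩).symm
  · rintro z z' ⟨g, rfl⟩
    exact Quotient.sound ⟨(g : G), Prod.ext g.2 rfl⟩
  · intro p p'
    induction p using Quotient.inductionOn with
    | _ z =>
      induction p' using Quotient.inductionOn with
      | _ z' =>
        intro h
        obtain ⟨g, hg⟩ := Quotient.exact h
        exact Quotient.sound ⟨⟨g, congrArg Prod.fst hg⟩, congrArg Prod.snd hg⟩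
  · intro p
    induction p using Quotient.inductionOn with
    | _ xz =>
      obtain ⟨x, z⟩ := xz
      obtain ⟨g, rfl⟩ := exists_smul_eq G x₀ x
      exact ⟨Quotient.mk _ (g⁻¹ • z), Quotient.sound ⟨g⁻¹, Prod.ext (inv_smul_smul g x₀) rfl⟩⟩

/-- The multiplicity in a transitive permutation character. -/
theorem classInner_permChar_irr {X : Type u₂} [MulAction G X] [Finite X] [IsPretransitive G X]
    (x₀ : X) (χ : Cfsg.IrrCharacter G) :
    Cfsg.classInner (permChar X : G → ℂ) (χ : G → ℂ) =
      Cfsg.classInner (fun _ : stabilizer G x₀ => (1 : ℂ))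
        (fun h : stabilizer G x₀ => (χ : G → ℂ) h) := by
  have e : (permChar X : G → ℂ) = Cfsg.indFun (stabilizer G x₀) fun _ => 1 :=
    card_fixedBy_eq_indFun X x₀
  rw [e, frobenius_reciprocity _ _ (isClassFunction_irr χ)]

/-- The invariants of a smaller subgroup are at least as many. -/
theorem exists_le {C H : Subgroup G} (hCH : C ≤ H) {φ : H → ℂ} (hφ : Cfsg.IsCharacter H φ) :
    ∃ i j : ℕ, i ≤ j ∧ Cfsg.classInner (fun _ : H => (1 : ℂ)) φ = i ∧
      Cfsg.classInner (fun _ : C => (1 : ℂ)) (fun c : C => φ ⟨c, hCH c.2⟩) = j := by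
  refine character_induction (P := fun φ : H → ℂ => ∃ i j : ℕ, i ≤ j ∧
    Cfsg.classInner (fun _ : H => (1 : ℂ)) φ = i ∧
      Cfsg.classInner (fun _ : C => (1 : ℂ)) (fun c : C => φ ⟨c, hCH c.2⟩) = j) ?_ ?_ hφ
  · exact ⟨0, 0, le_rfl, by simp [Cfsg.classInner], by simp [Cfsg.classInner]⟩
  rintro χ ψ - ⟨i, j, hij, hi, hj⟩
  obtain ⟨k, hk⟩ := exists_classInner_nat (G := C) (χ := fun _ : C => (1 : ℂ)) isCharacter_one
    (isCharacter_comp (Subgroup.inclusion hCH) (isCharacter_irr χ))
  have hk' : Cfsg.classInner (fun _ : C => (1 : ℂ)) (fun c : C => (χ : H → ℂ) ⟨c, hCH c.2⟩) = k :=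
    hk
  have hsplit : (fun c : C => ((χ : H → ℂ) + ψ) ⟨c, hCH c.2⟩) =
      (fun c : C => (χ : H → ℂ) ⟨c, hCH c.2⟩) + fun c : C => ψ ⟨c, hCH c.2⟩ := rfl
  by_cases h1 : χ = oneChar H
  · subst h1
    have hk1 : k = 1 := by
      have h2 := classInner_self_irr (oneChar C)
      rw [show ((oneChar C : Cfsg.IrrCharacter C) : C → ℂ) = fun _ => (1 : ℂ) from rfl] at h2
      simp only [oneChar_apply] at hk'
      rw [h2] at hk'
      exact_mod_cast hk'.symm
    subst hk1
    refine ⟨1 + i, 1 + j, Nat.add_le_add_left hij 1, ?_, ?_⟩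
    · rw [classInner_add_right, hi, show (fun _ : H => (1 : ℂ)) = (oneChar H : H → ℂ) from rfl,
        classInner_self_irr]
      push_cast; rfl
    · rw [hsplit, classInner_add_right, hk', hj]
      push_cast; rfl
  · refine ⟨i, k + j, le_add_left hij, ?_, ?_⟩
    · rw [classInner_add_right, hi, show (fun _ : H => (1 : ℂ)) = (oneChar H : H → ℂ) from rfl,
        classInner_irr_of_ne (Ne.symm h1), zero_add]
    · rw [hsplit, classInner_add_right, hk', hj]
      push_cast; rfl

end Cfsg.Agent.Lib.BenderOne67.C2.Perm
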