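import Mathlib
import Cfsg.Agent.Lib.BenderOne67.C2.Setup
import Cfsg.Agent.Lib.BenderOne67.C2.Perm

/-!
# Endgame of node C2: the actions on the involutions and on the points
-/

set_option autoImplicit false
set_option linter.style.haveILetI false
set_option linter.unusedSectionVars false

namespace Cfsg.Agent.Lib.BenderOne67.C2

open MulAction Cfsg.Agent.Lib.Involutions.Basic
open Cfsg.Agent.Lib.BenderOne20
open scoped Classical

universe u₁ u₂

/-- The involutions of `G`. -/
def Invol (G : Type u₁) [Group G] : Type u₁ := {s : G // orderOf s = 2}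

variable {G : Type u₁} [Group G]

instance : MulAction G (Invol G) where
  smul g s := ⟨g * s.1 * g⁻¹, (orderOf_conj_eq g s.1).trans s.2⟩
  one_smul s := Subtype.ext (by show (1 : G) * s.1 * 1⁻¹ = s.1; group)
  mul_smul g h s := Subtype.ext (by
    show g * h * s.1 * (g * h)⁻¹ = g * (h * s.1 * h⁻¹) * g⁻¹; group)

instance [Finite G] : Finite (Invol G) := Subtype.finite

theorem Invol.coe_smul (g : G) (s : Invol G) : (g • s).1 = g * s.1 * g⁻¹ :=
  rfl

theorem Invol.ext {s s' : Invol G} (h : s.1 = s'.1) : s = s' :=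
  Subtype.ext h

theorem Invol.smul_eq_iff (g : G) (s s' : Invol G) : g • s = s' ↔ g * s.1 * g⁻¹ = s'.1 :=
  ⟨fun h => congrArg Subtype.val h, fun h => Subtype.ext h⟩

theorem Invol.mem_fixedBy {g : G} {s : Invol G} : s ∈ fixedBy (Invol G) g ↔ g * s.1 = s.1 * g :=
  (Invol.smul_eq_iff g s s).trans mul_inv_eq_iff_eq_mul

namespace Hyp

variable {Ω : Type u₂} [MulAction G Ω] [Finite G] {a b : Ω} {t u y : G} {K : Subgroup G} {q : ℕ}
  (P : Hyp G a b t u y K q)
include P

theorem finite_points : Finite Ω := by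
  haveI := P.fix.trans
  exact Finite.of_surjective (fun g : G => g • a) fun x => exists_smul_eq G a x

/-- The involution `t` as a point. -/
def tPt : Invol G := ⟨t, P.ht.1⟩

/-- All involutions are conjugate. -/
theorem pretransitive : IsPretransitive G (Invol G) := by
  have key : ∀ s : Invol G, ∃ g : G, g • P.tPt = s := by
    intro s
    obtain ⟨x, hx⟩ := P.fix.exists_fix s.2
    haveI := P.fix.trans
    obtain ⟨g, hg⟩ := exists_smul_eq G x a
    have h := OneFix.conj_mem_invAt (g := g) (⟨s.2, hx⟩ : s.1 ∈ invAt G x)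
    rw [hg] at h
    obtain ⟨k, -, hk⟩ := P.trans _ h
    refine ⟨g⁻¹ * k, Invol.ext ?_⟩
    calc g⁻¹ * k * t * (g⁻¹ * k)⁻¹ = g⁻¹ * (k * t * k⁻¹) * g := by group
      _ = s.1 := by rw [hk]; group
  refine ⟨fun s s' => ?_⟩
  obtain ⟨g, rfl⟩ := key s
  obtain ⟨g', rfl⟩ := key s'
  exact ⟨g' * g⁻¹, by rw [mul_smul, inv_smul_smul]⟩

theorem mem_stab_tPt {g : G} : g ∈ stabilizer G P.tPt ↔ g * t = t * g :=
  (Invol.smul_eq_iff g P.tPt P.tPt).trans mul_inv_eq_iff_eq_mul

theorem stab_le : stabilizer G P.tPt ≤ stabilizer G a := fun _ hg =>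
  P.fix.smul_eq_of_commute P.ht (P.mem_stab_tPt.1 hg).symm

/-- There are `m` involutions at every point. -/
theorem card_invAt_eq (x : Ω) : Nat.card (invAt G x) = Nat.card K := by
  rw [P.fix.card_invAt x a, P.card, P.card_K]

theorem card_invol : Nat.card (Invol G) = Nat.card Ω * Nat.card K := by
  haveI := P.finite_points
  haveI := Fintype.ofFinite Ω
  have h : Nat.card (Invol G) = Nat.card (Σ x : Ω, invAt G x) := by
    refine (Nat.card_eq_of_bijective
      (fun p : Σ x : Ω, invAt G x => (⟨p.2.1, p.2.2.1⟩ : Invol G)) ⟨fun p p' h => ?_, fun s => ?_⟩).symm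
    · obtain ⟨x, s, hs⟩ := p
      obtain ⟨x', s', hs'⟩ := p'
      obtain rfl : s = s' := congrArg Subtype.val h
      obtain rfl : x = x' := P.fix.eq_of_fix hs.1 hs.2 hs'.2
      rfl
    · obtain ⟨x, hx⟩ := P.fix.exists_fix s.2
      exact ⟨⟨x, s.1, s.2, hx⟩, Subtype.ext rfl⟩
  rw [h, Nat.card_sigma, Finset.sum_congr rfl fun x _ => P.card_invAt_eq x, Finset.sum_const,
    Finset.card_univ, smul_eq_mul, Nat.card_eq_fintype_card (α := Ω)]

theorem one_lt_points : 1 < Nat.card Ω := by
  haveI := P.finite_points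
  haveI := P.fix.nontrivial
  exact Finite.one_lt_card

/-- A non-trivial element of `K` centralises no involution. -/
theorem card_fixedBy_invol_K {k : G} (hk : k ∈ K) (hk1 : k ≠ 1) :
    Nat.card (fixedBy (Invol G) k) = 0 := by
  rw [Nat.card_eq_zero]
  refine Or.inl ⟨fun s => ?_⟩
  have h := P.cen_K hk hk1 (Invol.mem_fixedBy.1 s.2).symm
  exact (odd_card_iff_no_invol K).1 P.odd_K _ h s.1.2

theorem card_fixedBy_points_K {k : G} (hk : k ∈ K) (hk1 : k ≠ 1) :
    Nat.card (fixedBy Ω k) = 2 := by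
  have h : fixedBy Ω k = {a, b} := by
    ext e
    refine ⟨fun he => P.fix_pair hk hk1 he, fun he => ?_⟩
    rcases he with rfl | rfl
    · exact P.smul_a hk
    · exact P.smul_b hk
  rw [h, Nat.card_coe_set_eq, Set.ncard_pair P.ne.symm]

/-- An involution at `a` centralises exactly the involutions at `a`. -/
theorem card_fixedBy_invol_at {s : G} (hs : s ∈ invAt G a) :
    Nat.card (fixedBy (Invol G) s) = Nat.card K := by
  rw [← P.card_invAt_eq a]
  exact Nat.card_congr
    { toFun := fun r => ⟨r.1.1, r.1.2,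
        P.fix.smul_eq_of_commute hs (Invol.mem_fixedBy.1 r.2)⟩
      invFun := fun r => ⟨⟨r.1, r.2.1⟩, Invol.mem_fixedBy.2 (P.comm s hs r.1 r.2)⟩
      left_inv := fun r => rfl
      right_inv := fun r => rfl }

theorem card_fixedBy_points_t : Nat.card (fixedBy Ω t) = 1 := by
  haveI := P.finite_points
  refine Nat.card_eq_one_iff_unique.2 ⟨⟨fun x x' => ?_⟩, ⟨⟨a, P.ht.2⟩⟩⟩
  exact Subtype.ext (P.fix.eq_of_fix P.ht.1 x.2 x'.2)

/-- Off the involutions at `a`, no involution centralises the product with `t`. -/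
theorem card_fixedBy_mul {s : Invol G} (hs : s.1 • a ≠ a) :
    Nat.card (fixedBy (Invol G) (t * s.1)) = 0 := by
  rw [Nat.card_eq_zero]
  refine Or.inl ⟨fun rr => ?_⟩
  obtain ⟨⟨r, hr2⟩, hr⟩ := rr
  have hc : t * s.1 * r = r * (t * s.1) := Invol.mem_fixedBy.1 hr
  obtain ⟨c, hc'⟩ := P.fix.exists_fix hr2
  set x := t * s.1 with hxdef
  have hxc : x • c = c := P.fix.smul_eq_of_commute ⟨hr2, hc'⟩ hc.symm
  have hx1 : x ≠ 1 := by
    intro h
    refine hs ?_
    rw [← inv_eq_of_mul_eq_one_right h, invol_inv P.ht.1]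
    exact P.ht.2
  have hca : c ≠ a := by
    rintro rfl
    refine hs ?_
    have h := congrArg (fun z => t • z) hxc
    simp only [hxdef, smul_smul, ← mul_assoc, invol_mul_self P.ht.1, one_mul] at h
    exact h.trans P.ht.2
  have hd : c ≠ t • c := fun h => hca (P.fix.eq_of_fix P.ht.1 h.symm P.ht.2)
  have hinv : t * x * t⁻¹ = x⁻¹ := by
    rw [hxdef, mul_inv_rev, invol_inv P.ht.1, invol_inv s.2, ← mul_assoc, invol_mul_self P.ht.1,
      one_mul]
  have hxd : x • t • c = t • c := by
    have hxi : x⁻¹ • c = c := inv_smul_eq_iff.2 hxc.symm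
    rw [smul_smul, show x * t = t * x⁻¹ by rw [← hinv, invol_inv P.ht.1,
      ← mul_assoc, ← mul_assoc, invol_mul_self P.ht.1, one_mul], mul_smul, hxi]
  have hrd : x • r • t • c = r • t • c := by
    rw [smul_smul, hc, mul_smul, hxd]
  rcases BenderOne8.eq_or_eq_of_inverted P.fix P.propF hd ⟨P.ht.1, rfl⟩ ⟨hxc, hxd⟩ hx1 hinv hrd
    with h | h
  · exact hd (MulAction.injective r (hc'.trans h.symm))
  · exact hd (P.fix.eq_of_fix hr2 hc' h)

/-- The involutions moving `x` as `t` does number `m`. -/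
theorem card_same_image (x : Ω) :
    Nat.card {s : Invol G // s.1 • x = t • x} = Nat.card K := by
  by_cases hx : x = a
  · subst hx
    rw [← P.card_invAt_eq x]
    exact Nat.card_congr
      { toFun := fun r => ⟨r.1.1, r.1.2, r.2.trans P.ht.2⟩
        invFun := fun r => ⟨⟨r.1, r.2.1⟩, r.2.2.trans P.ht.2.symm⟩
        left_inv := fun r => rfl
        right_inv := fun r => rfl }
  · have hne : x ≠ t • x := fun h => hx (P.fix.eq_of_fix P.ht.1 h.symm P.ht.2)
    rw [← P.card_invAt_eq (t • x), ← P.fix.card_swapSet hne]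
    exact Nat.card_congr
      { toFun := fun r => ⟨r.1.1, r.1.2, r.2⟩
        invFun := fun r => ⟨⟨r.1, r.2.1⟩, r.2.2⟩
        left_inv := fun r => rfl
        right_inv := fun r => rfl }

/-- The stabiliser of `a` has two orbits. -/
theorem card_orbits_of_trans (S : Subgroup G) (hS : S ≤ stabilizer G a)
    (htr : ∀ x : Ω, x ≠ a → ∃ g ∈ S, g • b = x) :
    Nat.card (orbitRel.Quotient S Ω) = 2 := by
  haveI := P.finite_points
  rw [Nat.card_eq_two_iff]
  refine ⟨Quotient.mk _ a, Quotient.mk _ b, fun h => ?_, Set.eq_univ_of_forall fun p => ?_⟩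
  · obtain ⟨g, hg⟩ := Quotient.exact h
    have hg' : (g : G) • b = a := hg
    exact P.ne (MulAction.injective (g : G) (hg'.trans (hS g.2 : (g : G) • a = a).symm))
  · induction p using Quotient.inductionOn with
    | _ x =>
      by_cases hx : x = a
      · subst hx; exact Or.inl rfl
      · obtain ⟨g, hg, hgx⟩ := htr x hx
        exact Or.inr (Quotient.sound ⟨⟨g, hg⟩, hgx⟩)

/-- The centraliser of `t` is transitive on the points other than `a`. -/
theorem exists_cen_smul {x : Ω} (hx : x ≠ a) : ∃ g ∈ stabilizer G P.tPt, g • b = x := by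
  obtain ⟨h, hha, hhb⟩ := P.two b x P.ne hx
  have hs : h⁻¹ * t * h ∈ invAt G a := by
    have := P.conj_mem_invAt (g := h⁻¹) (inv_smul_eq_iff.2 hha.symm) P.ht
    rwa [inv_inv] at this
  obtain ⟨k, hk, e⟩ := P.trans _ hs
  refine ⟨h * k, P.mem_stab_tPt.2 ?_, by rw [mul_smul, P.smul_b hk, hhb]⟩
  calc h * k * t = h * (k * t * k⁻¹) * k := by group
    _ = t * (h * k) := by rw [e]; group

theorem orbits_cen_points : Nat.card (orbitRel.Quotient (stabilizer G P.tPt) Ω) = 2 :=
  P.card_orbits_of_trans _ P.stab_le fun _ hx => P.exists_cen_smul hx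

theorem orbits_stab_points : Nat.card (orbitRel.Quotient (stabilizer G a) Ω) = 2 :=
  P.card_orbits_of_trans _ le_rfl fun x hx => by
    obtain ⟨g, hga, hgb⟩ := P.two b x P.ne hx
    exact ⟨g, hga, hgb⟩

end Hyp

end Cfsg.Agent.Lib.BenderOne67.C2
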