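import Mathlib
import Cfsg.Agent.Lib.BenderOne67.C2.Invol

/-!
# Endgame of node C2: the orbits of `C(t)` on the involutions

There are at most `4 N + 2` of them, where `m = 2 q N + 1`, with equality only if the orbits on the
involutions at `a` are those of `⟨y⟩`.
-/

set_option autoImplicit false
set_option linter.style.haveILetI false
set_option linter.unusedSectionVars false

namespace Cfsg.Agent.Lib.BenderOne67.C2

open MulAction Cfsg.Agent.Lib.Involutions.Basic
open Cfsg.Agent.Lib.BenderOne20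
open scoped Classical

universe u₁ u₂

/-- The involutions at a point fixed by `y`, under conjugation by `⟨y⟩`. -/
def atPt {G : Type u₁} [Group G] {Ω : Type u₂} [MulAction G Ω] {y : G} {x : Ω} (hx : y • x = x) :
    SubMulAction (Subgroup.zpowers y) (Invol G) where
  carrier := {s | s.1 • x = x}
  smul_mem' g s hs := by
    have hg : (g : G) • x = x := (Subgroup.zpowers_le (H := stabilizer G x)).2 hx g.2
    exact (mul_smul ((g : G) * s.1) (g : G)⁻¹ x).trans (by
      rw [inv_smul_eq_iff.2 hg.symm, mul_smul, (hs : s.1 • x = x), hg])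

namespace Hyp

variable {G : Type u₁} [Group G] {Ω : Type u₂} [MulAction G Ω] [Finite G] {a b : Ω} {t u y : G}
  {K : Subgroup G} {q : ℕ} (P : Hyp G a b t u y K q)
include P

theorem card_atPt {x : Ω} (hx : y • x = x) : Nat.card ↥(atPt hx) = Nat.card K := by
  rw [← P.card_invAt_eq x]
  exact Nat.card_congr
    { toFun := fun r => ⟨r.1.1, r.1.2, r.2⟩
      invFun := fun r => ⟨⟨r.1, r.2.1⟩, r.2.2⟩
      left_inv := fun r => rfl
      right_inv := fun r => rfl }

/-- `⟨y⟩` has `2 N + 1` orbits if it fixes just one involution at the point. -/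
theorem card_orbits_atPt {N : ℕ} (hN : 2 * q * N + 1 = Nat.card K) {x : Ω} (hx : y • x = x)
    {s₀ : G} (hs₀ : s₀ ∈ invAt G x) (hcomm : y * s₀ = s₀ * y)
    (huniq : ∀ i : ℕ, y ^ i ≠ 1 → ∀ s ∈ invAt G x, y ^ i * s = s * y ^ i → s = s₀) :
    Nat.card (orbitRel.Quotient (Subgroup.zpowers y) ↥(atPt hx)) = 2 * N + 1 := by
  set α := ↥(atPt hx) with hα
  haveI : Finite α := inferInstanceAs (Finite ↥(atPt hx))
  haveI := Fintype.ofFinite α
  haveI := Fintype.ofFinite (Subgroup.zpowers y)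
  haveI := Fintype.ofFinite (orbitRel.Quotient (Subgroup.zpowers y) α)
  have h1 : ∀ g : Subgroup.zpowers y, g ≠ 1 → Fintype.card (fixedBy α g) = 1 := by
    intro g hg
    rw [Fintype.card_eq_one_iff]
    obtain ⟨i, hi⟩ : ∃ i : ℕ, y ^ i = (g : G) :=
      (isOfFinOrder_of_finite y).mem_zpowers_iff_mem_range_orderOf.1 g.2 |> fun h => by
        obtain ⟨i, -, hi⟩ := Finset.mem_image.1 h
        exact ⟨i, hi⟩
    have hi1 : y ^ i ≠ 1 := fun h => hg (Subtype.ext (hi.symm.trans h))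
    refine ⟨⟨⟨⟨s₀, hs₀.1⟩, hs₀.2⟩, ?_⟩, fun s => ?_⟩
    · refine Subtype.ext (Invol.ext ?_)
      show (g : G) * s₀ * (g : G)⁻¹ = s₀
      rw [← hi, mul_inv_eq_iff_eq_mul]
      exact ((show Commute y s₀ from hcomm).pow_left i).eq
    · obtain ⟨⟨⟨s, hs2⟩, hsx⟩, hfix⟩ := s
      have e : (g : G) * s * (g : G)⁻¹ = s :=
        congrArg (fun z : α => z.1.1) (mem_fixedBy.1 hfix)
      refine Subtype.ext (Subtype.ext (Invol.ext ?_))
      exact huniq i hi1 s ⟨hs2, hsx⟩ (by rw [hi]; exact mul_inv_eq_iff_eq_mul.1 e)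
  have hB := sum_card_fixedBy_eq_card_orbits_mul_card_group (Subgroup.zpowers y) α
  rw [← Finset.add_sum_erase _ _ (Finset.mem_univ (1 : Subgroup.zpowers y)),
    Finset.sum_congr rfl fun g hg => h1 g (Finset.ne_of_mem_erase hg), Finset.sum_const,
    smul_eq_mul, mul_one, Finset.card_erase_of_mem (Finset.mem_univ _), Finset.card_univ] at hB
  have hone : Fintype.card (fixedBy α (1 : Subgroup.zpowers y)) = Nat.card K := by
    rw [← P.card_atPt hx, Nat.card_eq_fintype_card]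
    exact Fintype.card_congr (Equiv.subtypeUnivEquiv fun s => one_smul _ s)
  have hq : Fintype.card (Subgroup.zpowers y) = q := by
    rw [← Nat.card_eq_fintype_card, Nat.card_zpowers, P.ordy]
  rw [hone, hq] at hB
  rw [Nat.card_eq_fintype_card]
  set o := Fintype.card (orbitRel.Quotient (Subgroup.zpowers y) α)
  have hq2 := P.prime.two_le
  have h2 : o * q = (2 * N + 1) * q := by
    rw [← hB, ← hN]
    zify [show 1 ≤ q by omega]
    ring
  exact Nat.eq_of_mul_eq_mul_right (by omega) h2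

theorem y_fix_a : y • a = a := P.hy.1

theorem y_fix_b : y • b = b := P.hy.2

theorem uniq_a (i : ℕ) (hi : y ^ i ≠ 1) {s : G} (hs : s ∈ invAt G a)
    (h : y ^ i * s = s * y ^ i) : s = t := by
  obtain ⟨k, hk, rfl⟩ := P.trans s hs
  set g := y ^ i
  have hg := P.y_pow_norm i hk
  have e : (g * k * g⁻¹) * t * (g * k * g⁻¹)⁻¹ = k * t * k⁻¹ := by
    have hgt : g⁻¹ * t * g = t := by
      rw [mul_assoc, ← P.y_pow_t i, inv_mul_cancel_left]
    calc (g * k * g⁻¹) * t * (g * k * g⁻¹)⁻¹ = g * (k * (g⁻¹ * t * g) * k⁻¹) * g⁻¹ := by group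
      _ = g * (k * t * k⁻¹) * g⁻¹ := by rw [hgt]
      _ = k * t * k⁻¹ := by rw [h]; group
  have h1 : (k⁻¹ * (g * k * g⁻¹)) * t = t * (k⁻¹ * (g * k * g⁻¹)) := by
    calc (k⁻¹ * (g * k * g⁻¹)) * t
        = k⁻¹ * ((g * k * g⁻¹) * t * (g * k * g⁻¹)⁻¹) * (g * k * g⁻¹) := by group
      _ = t * (k⁻¹ * (g * k * g⁻¹)) := by rw [e]; group
  have h2 := inv_mul_eq_one.1 (P.free _ (mul_mem (inv_mem hk) hg) h1)
  rw [P.fpf_pow hk (mul_inv_eq_iff_eq_mul.1 h2.symm) hi, one_mul, inv_one, mul_one]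

theorem utu_mem : u * t * u⁻¹ ∈ invAt G b := P.hu.2 ▸ OneFix.conj_mem_invAt P.ht

theorem y_comm_utu (i : ℕ) : y ^ i * (u * t * u⁻¹) = u * t * u⁻¹ * y ^ i :=
  (((show Commute (y ^ i) u from P.y_pow_u i).mul_right (P.y_pow_t i)).mul_right
    (show Commute (y ^ i) u from P.y_pow_u i).inv_right).eq

theorem uniq_b (i : ℕ) (hi : y ^ i ≠ 1) {s : G} (hs : s ∈ invAt G b)
    (h : y ^ i * s = s * y ^ i) : s = u * t * u⁻¹ := by
  have h1 : u⁻¹ * s * u ∈ invAt G a := by
    have := OneFix.conj_mem_invAt (g := u⁻¹) hs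
    rwa [inv_inv, show u⁻¹ • b = a from inv_smul_eq_iff.2 P.hu.2.symm] at this
  have hc : Commute (y ^ i) u := P.y_pow_u i
  have h2 := P.uniq_a i hi h1 ((hc.inv_right.mul_right (show Commute (y ^ i) s from h)).mul_right hc).eq
  rw [← h2]; group

/-- The orbits of `⟨y⟩` at `a`. -/
abbrev QA : Type u₁ := orbitRel.Quotient (Subgroup.zpowers y) ↥(atPt P.y_fix_a)

/-- The orbits of `⟨y⟩` at `b`. -/
abbrev QB : Type u₁ := orbitRel.Quotient (Subgroup.zpowers y) ↥(atPt P.y_fix_b)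

theorem zpowers_le_stab : Subgroup.zpowers y ≤ stabilizer G P.tPt :=
  Subgroup.zpowers_le.2 (P.mem_stab_tPt.2 P.yt)

theorem lift_wd {x : Ω} (hx : y • x = x) (s s' : ↥(atPt hx))
    (h : orbitRel (Subgroup.zpowers y) ↥(atPt hx) s s') :
    Quotient.mk (orbitRel (stabilizer G P.tPt) (Invol G)) s.1 = Quotient.mk _ s'.1 := by
  obtain ⟨g, hg⟩ := h
  exact Quotient.sound ⟨⟨g, P.zpowers_le_stab g.2⟩, congrArg Subtype.val hg⟩

/-- The map to the orbits of `C(t)`. -/
def toOrb : P.QA ⊕ P.QB → orbitRel.Quotient (stabilizer G P.tPt) (Invol G) :=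
  Sum.elim (Quotient.lift (fun s => Quotient.mk _ s.1) (P.lift_wd P.y_fix_a))
    (Quotient.lift (fun s => Quotient.mk _ s.1) (P.lift_wd P.y_fix_b))

theorem toOrb_surjective : Function.Surjective P.toOrb := by
  intro p
  induction p using Quotient.inductionOn with
  | _ s =>
    obtain ⟨x, hx⟩ := P.fix.exists_fix s.2
    by_cases hxa : x = a
    · subst hxa
      exact ⟨Sum.inl (Quotient.mk _ ⟨s, hx⟩), rfl⟩
    · obtain ⟨g, hg, hgb⟩ := P.exists_cen_smul hxa
      have hmem : (g⁻¹ • s).1 • b = b := by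
        have h := (OneFix.conj_mem_invAt (g := g⁻¹) (⟨s.2, hx⟩ : s.1 ∈ invAt G x)).2
        rwa [inv_smul_eq_iff.2 hgb.symm] at h
      exact ⟨Sum.inr (Quotient.mk _ ⟨g⁻¹ • s, hmem⟩),
        Quotient.sound ⟨⟨g⁻¹, inv_mem hg⟩, rfl⟩⟩

theorem toOrb_inr_injective : Function.Injective fun p => P.toOrb (Sum.inr p) := by
  intro p p'
  induction p using Quotient.inductionOn with
  | _ s =>
    induction p' using Quotient.inductionOn with
    | _ s' =>
      intro h
      obtain ⟨g, hg⟩ := Quotient.exact h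
      have hga : (g : G) • a = a := P.stab_le g.2
      have hgb : (g : G) • b = b := by
        have h1 := (OneFix.conj_mem_invAt (g := (g : G)) (⟨s'.1.2, s'.2⟩ : s'.1.1 ∈ invAt G b)).2
        have e : (g : G) * s'.1.1 * (g : G)⁻¹ = s.1.1 := congrArg Subtype.val hg
        rw [e] at h1
        exact P.fix.eq_of_fix s.1.2 h1 s.2
      obtain ⟨i, hi⟩ := P.exists_pow_of_comm ⟨hga, hgb⟩ (P.mem_stab_tPt.1 g.2)
      exact Quotient.sound ⟨⟨(g : G), hi ▸ pow_mem (Subgroup.mem_zpowers y) i⟩, Subtype.ext hg⟩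

theorem toOrb_inl_ne_inr (p : P.QA) (p' : P.QB) : P.toOrb (Sum.inl p) ≠ P.toOrb (Sum.inr p') := by
  induction p using Quotient.inductionOn with
  | _ s =>
    induction p' using Quotient.inductionOn with
    | _ s' =>
      intro h
      obtain ⟨g, hg⟩ := Quotient.exact h
      have hga : (g : G) • a = a := P.stab_le g.2
      have e : (g : G) * s'.1.1 * (g : G)⁻¹ = s.1.1 := congrArg Subtype.val hg
      have h1 := (OneFix.conj_mem_invAt (g := (g : G)) (⟨s'.1.2, s'.2⟩ : s'.1.1 ∈ invAt G b)).2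
      rw [e] at h1
      exact P.ne (MulAction.injective (g : G)
        ((P.fix.eq_of_fix s.1.2 h1 s.2).trans hga.symm))

variable {N : ℕ} (hN : 2 * q * N + 1 = Nat.card K)
include hN

theorem card_QA : Nat.card P.QA = 2 * N + 1 :=
  P.card_orbits_atPt hN P.y_fix_a P.ht P.yt fun i hi _ hs h => P.uniq_a i hi hs h

theorem card_QB : Nat.card P.QB = 2 * N + 1 :=
  P.card_orbits_atPt hN P.y_fix_b P.utu_mem (by simpa using P.y_comm_utu 1)
    fun i hi _ hs h => P.uniq_b i hi hs h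

theorem orbits_invol_le : Nat.card (orbitRel.Quotient (stabilizer G P.tPt) (Invol G)) ≤ 4 * N + 2 := by
  have h := Nat.card_le_card_of_surjective P.toOrb P.toOrb_surjective
  rw [Nat.card_sum, P.card_QA hN, P.card_QB hN] at h
  omega

theorem le_orbits_invol : 2 * N + 3 ≤ Nat.card (orbitRel.Quotient (stabilizer G P.tPt) (Invol G)) := by
  obtain ⟨k, hk, hk1⟩ := P.exists_ne_one
  have hs := P.conj_mem_invAt (P.smul_a hk) P.ht
  let p₁ : P.QA := Quotient.mk _ ⟨P.tPt, P.ht.2⟩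
  let p₂ : P.QA := Quotient.mk _ ⟨⟨_, hs.1⟩, hs.2⟩
  let f : Bool ⊕ P.QB → orbitRel.Quotient (stabilizer G P.tPt) (Invol G) :=
    Sum.elim (fun c => P.toOrb (Sum.inl (if c then p₁ else p₂))) fun p => P.toOrb (Sum.inr p)
  have hne : P.toOrb (Sum.inl p₁) ≠ P.toOrb (Sum.inl p₂) := by
    intro h
    obtain ⟨g, hg⟩ := Quotient.exact h
    have e : (g : G) * (k * t * k⁻¹) * (g : G)⁻¹ = t := congrArg Subtype.val hg
    have hgt := P.mem_stab_tPt.1 g.2
    refine hk1 (P.free k hk ?_)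
    have h1 : k * t * k⁻¹ = t := by
      calc k * t * k⁻¹ = (g : G)⁻¹ * ((g : G) * (k * t * k⁻¹) * (g : G)⁻¹) * g := by group
        _ = t := by rw [e, mul_assoc, ← hgt, inv_mul_cancel_left]
    exact mul_inv_eq_iff_eq_mul.1 h1
  have hf : Function.Injective f := by
    rintro (c | p) (c' | p') h
    · cases c <;> cases c' <;> first | rfl | exact absurd h hne | exact absurd h.symm hne
    · exact absurd h (P.toOrb_inl_ne_inr _ _)
    · exact absurd h.symm (P.toOrb_inl_ne_inr _ _)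
    · exact congrArg Sum.inr (P.toOrb_inr_injective h)
  have h := Nat.card_le_card_of_injective f hf
  rw [Nat.card_sum, P.card_QB hN, Nat.card_eq_fintype_card, Fintype.card_bool] at h
  omega

/-- In case of equality an element centralising `t` moves each involution at `a` within its
`⟨y⟩`-orbit. -/
theorem exists_pow_conj
    (ho : Nat.card (orbitRel.Quotient (stabilizer G P.tPt) (Invol G)) = 4 * N + 2)
    {g : G} (hg : g * t = t * g) {s : G} (hs : s ∈ invAt G a) :
    ∃ i : ℕ, g * s * g⁻¹ = y ^ i * s * (y ^ i)⁻¹ := by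
  have hbij : Function.Bijective P.toOrb :=
    P.toOrb_surjective.bijective_of_nat_card_le (by
      rw [Nat.card_sum, P.card_QA hN, P.card_QB hN, ho]; omega)
  have hga : g • a = a := P.fix.smul_eq_of_commute P.ht hg.symm
  have hs' := P.conj_mem_invAt hga hs
  have h : P.toOrb (Sum.inl (Quotient.mk _ ⟨⟨_, hs'.1⟩, hs'.2⟩)) =
      P.toOrb (Sum.inl (Quotient.mk _ ⟨⟨s, hs.1⟩, hs.2⟩)) :=
    Quotient.sound ⟨⟨g, P.mem_stab_tPt.2 hg⟩, rfl⟩
  obtain ⟨⟨z, hz⟩, e⟩ := Quotient.exact (Sum.inl_injective (hbij.1 h))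
  obtain ⟨i, hi⟩ : ∃ i : ℕ, y ^ i = z := by
    obtain ⟨i, -, hi⟩ :=
      Finset.mem_image.1 ((isOfFinOrder_of_finite y).mem_zpowers_iff_mem_range_orderOf.1 hz)
    exact ⟨i, hi⟩
  refine ⟨i, ?_⟩
  rw [hi]
  exact (congrArg (fun p : ↥(atPt P.y_fix_a) => p.1.1) e).symm

end Hyp

end Cfsg.Agent.Lib.BenderOne67.C2
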