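import Mathlib
import Cfsg.Agent.Lib.BenderOne67.C2.Arith
import Cfsg.Agent.Lib.BenderOne67.C2.DualOrbits
import Cfsg.Agent.Lib.BenderOne67.C2.InvolOrbits
import Cfsg.Agent.Lib.H80.ClassMult
import Cfsg.Agent.Lib.Fg6.NormThree

/-!
# Endgame of node C2: the count

`R` is the permutation character on the involutions minus the one on the points.  All constituents
have degree `n` times their value at `t`, so by the arithmetic its norm is `4 N`, and the orbits of
`C(t)` on the involutions at `a` are those of `⟨y⟩`.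
-/

set_option autoImplicit false
set_option linter.style.haveILetI false
set_option linter.unusedSectionVars false

namespace Cfsg.Agent.Lib.BenderOne67.C2

open MulAction Cfsg.Agent.Lib.Involutions.Basic
open Cfsg.Agent.Lib.BenderOne20
open Cfsg.Agent.Lib.Characters.Basic Cfsg.Agent.Lib.Characters.Complete
open Cfsg.Agent.Lib.Characters.Transitive
open Cfsg.Agent.Lib.Induced.Basic
open scoped ComplexConjugate Classical

universe u₁ u₂

variable {G : Type u₁} [Group G] [Fintype G]

theorem isClassFunction_permChar (X : Type u₂) [MulAction G X] [Finite X] :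
    Cfsg.IsClassFunction G (permChar X : G → ℂ) := fun g h => by
  simp only [permChar]
  congr 1
  exact Nat.card_congr
    { toFun := fun x => ⟨h⁻¹ • x.1, by
        rw [mem_fixedBy, eq_inv_smul_iff, smul_smul, smul_smul]
        exact x.2⟩
      invFun := fun x => ⟨h • x.1, by
        rw [mem_fixedBy, ← mul_smul, show h * g * h⁻¹ * h = h * g by group, mul_smul,
          mem_fixedBy.1 x.2]⟩
      left_inv := fun x => Subtype.ext (smul_inv_smul h x.1)
      right_inv := fun x => Subtype.ext (inv_smul_smul h x.1) }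

namespace Hyp

variable {Ω : Type u₂} [MulAction G Ω] {a b : Ω} {t u y : G} {K : Subgroup G} {q : ℕ}
  (P : Hyp G a b t u y K q)
include P

/-- The character. -/
noncomputable def R (_P : Hyp G a b t u y K q) : G → ℂ := fun g =>
  permChar (Invol G) g - permChar Ω g

theorem R_apply (g : G) :
    P.R g = (Nat.card (fixedBy (Invol G) g) : ℂ) - Nat.card (fixedBy Ω g) :=
  rfl

theorem isClassFunction_R : Cfsg.IsClassFunction G P.R := by
  haveI := P.finite_points
  exact classFun_sub (isClassFunction_permChar _) (isClassFunction_permChar _)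

theorem exists_M (χ : Cfsg.IrrCharacter G) :
    ∃ M : ℕ, Cfsg.classInner P.R (χ : G → ℂ) = M := by
  haveI := P.finite_points
  haveI := P.fix.trans
  haveI := P.pretransitive
  have e : Cfsg.classInner P.R (χ : G → ℂ) =
      Cfsg.classInner (permChar (Invol G) : G → ℂ) (χ : G → ℂ) -
        Cfsg.classInner (permChar Ω : G → ℂ) (χ : G → ℂ) :=
    classInner_sub_left _ _ _
  obtain ⟨i, j, hij, hi, hj⟩ := Perm.exists_le P.stab_le
    (isCharacter_comp (stabilizer G a).subtype (isCharacter_irr χ))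
  refine ⟨j - i, ?_⟩
  rw [e, Perm.classInner_permChar_irr P.tPt χ, Perm.classInner_permChar_irr a χ, Nat.cast_sub hij,
    ← hi, ← hj]
  rfl

/-- The multiplicities in `R`. -/
noncomputable def M (χ : Cfsg.IrrCharacter G) : ℕ :=
  (P.exists_M χ).choose

theorem M_spec (χ : Cfsg.IrrCharacter G) : Cfsg.classInner P.R (χ : G → ℂ) = P.M χ :=
  (P.exists_M χ).choose_spec

variable [Fintype (Cfsg.IrrCharacter G)]

theorem R_eq (g : G) : P.R g = ∑ χ : Cfsg.IrrCharacter G, (P.M χ : ℂ) * (χ : G → ℂ) g := by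
  have h := congrFun (classFunction_eq_sum P.isClassFunction_R) g
  simp only [Finset.sum_apply, Pi.smul_apply, smul_eq_mul, P.M_spec] at h
  exact h

omit [Fintype (Cfsg.IrrCharacter G)] in
theorem R_one : P.R 1 = (Nat.card Ω : ℂ) * ((Nat.card K : ℂ) - 1) := by
  rw [P.R_apply, fixedBy_one_eq_univ, fixedBy_one_eq_univ, Nat.card_univ, Nat.card_univ,
    P.card_invol]
  push_cast
  ring

omit [Fintype (Cfsg.IrrCharacter G)] in
theorem R_K {k : G} (hk : k ∈ K) (hk1 : k ≠ 1) : P.R k = -2 := by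
  rw [P.R_apply, P.card_fixedBy_invol_K hk hk1, P.card_fixedBy_points_K hk hk1]
  norm_num

omit [Fintype (Cfsg.IrrCharacter G)] in
theorem R_t : P.R t = (Nat.card K : ℂ) - 1 := by
  rw [P.R_apply, P.card_fixedBy_invol_at P.ht, P.card_fixedBy_points_t]
  norm_num

omit [Fintype (Cfsg.IrrCharacter G)] in
theorem card_stab_mul :
    Nat.card Ω * Nat.card K * Nat.card (stabilizer G P.tPt) = Nat.card G := by
  haveI := P.pretransitive
  rw [← P.card_invol, ← index_stabilizer_of_transitive G P.tPt]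
  exact Subgroup.index_mul_card _

omit [Fintype (Cfsg.IrrCharacter G)] in
theorem sum_R_invol [Fintype (Invol G)] :
    ∑ s : Invol G, P.R (t * s.1) = (Nat.card K : ℂ) * ((Nat.card K : ℂ) - 1) := by
  haveI := P.finite_points
  haveI := Fintype.ofFinite Ω
  have hπ : ∑ s : Invol G, (Nat.card (fixedBy Ω (t * s.1)) : ℂ) =
      (Nat.card Ω : ℂ) * Nat.card K := by
    have h1 : ∑ s : Invol G, Nat.card (fixedBy Ω (t * s.1)) = Nat.card Ω * Nat.card K := by
      calc ∑ s : Invol G, Nat.card (fixedBy Ω (t * s.1))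
          = Nat.card (Σ s : Invol G, fixedBy Ω (t * s.1)) := Nat.card_sigma.symm
        _ = Nat.card (Σ x : Ω, {s : Invol G // s.1 • x = t • x}) := Nat.card_congr
              { toFun := fun p => ⟨p.2.1, p.1, by
                  have h := congrArg (fun z => t • z) (mem_fixedBy.1 p.2.2)
                  simpa [smul_smul, ← mul_assoc, invol_mul_self P.ht.1] using h⟩
                invFun := fun p => ⟨p.2.1, p.1, by
                  rw [mem_fixedBy, mul_smul, p.2.2, smul_smul, invol_mul_self P.ht.1, one_smul]⟩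
                left_inv := fun p => rfl
                right_inv := fun p => rfl }
        _ = ∑ x : Ω, Nat.card {s : Invol G // s.1 • x = t • x} := Nat.card_sigma
        _ = Nat.card Ω * Nat.card K := by
              rw [Finset.sum_congr rfl fun x _ => P.card_same_image x, Finset.sum_const,
                Finset.card_univ, smul_eq_mul, Nat.card_eq_fintype_card (α := Ω)]
    exact_mod_cast h1
  have hI : ∀ s : Invol G, (Nat.card (fixedBy (Invol G) (t * s.1)) : ℂ) =
      if s.1 • a = a then (Nat.card K : ℂ) + (if s = P.tPt then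
        (Nat.card Ω : ℂ) * Nat.card K - Nat.card K else 0) else 0 := by
    intro s
    split_ifs with h1 h2
    · subst h2
      rw [show t * P.tPt.1 = 1 from invol_mul_self P.ht.1, fixedBy_one_eq_univ, Nat.card_univ,
        P.card_invol]
      push_cast
      ring
    · rw [add_zero, P.card_fixedBy_invol_at]
      refine ⟨invol_iff.2 ⟨?_, fun e => h2 (Invol.ext ?_)⟩, by rw [mul_smul, h1, P.ht.2]⟩
      · calc t * s.1 * (t * s.1) = t * (s.1 * t) * s.1 := by group
          _ = (t * t) * (s.1 * s.1) := by rw [← P.comm t P.ht s.1 ⟨s.2, h1⟩]; group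
          _ = 1 := by rw [invol_mul_self P.ht.1, invol_mul_self s.2, one_mul]
      · show s.1 = t
        rw [← inv_eq_of_mul_eq_one_right e, invol_inv P.ht.1]
    · rw [P.card_fixedBy_mul h1, Nat.cast_zero]
  have hJ : ((Finset.univ.filter fun s : Invol G => s.1 • a = a).card : ℂ) = Nat.card K := by
    rw [← Fintype.card_subtype, ← Nat.card_eq_fintype_card, ← P.card_invAt_eq a]
    exact congrArg Nat.cast (Nat.card_congr
      { toFun := fun r => (⟨r.1.1, r.1.2, r.2⟩ : invAt G a)
        invFun := fun r => ⟨⟨r.1, r.2.1⟩, r.2.2⟩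
        left_inv := fun r => rfl
        right_inv := fun r => rfl })
  simp only [P.R_apply, Finset.sum_sub_distrib, hπ, hI]
  rw [← Finset.sum_filter, Finset.sum_add_distrib, Finset.sum_const, nsmul_eq_mul, hJ,
    Finset.sum_ite_eq']
  split_ifs with hmem
  · ring
  · exact absurd (Finset.mem_filter.2
      ⟨Finset.mem_univ P.tPt, (P.ht.2 : P.tPt.1 • a = a)⟩) hmem

omit [Fintype (Cfsg.IrrCharacter G)] in
theorem sum_R_conj :
    ∑ g : G, P.R (t * (g * t * g⁻¹)) =
      (Nat.card (stabilizer G P.tPt) : ℂ) * ((Nat.card K : ℂ) * ((Nat.card K : ℂ) - 1)) := by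
  haveI := Fintype.ofFinite (Invol G)
  haveI := P.pretransitive
  have hfib : ∀ s : Invol G, (Finset.univ.filter fun g : G => g • P.tPt = s).card =
      Nat.card (stabilizer G P.tPt) := by
    intro s
    obtain ⟨g₀, rfl⟩ := exists_smul_eq G P.tPt s
    rw [← Fintype.card_subtype, ← Nat.card_eq_fintype_card]
    exact Nat.card_congr
      { toFun := fun g => ⟨g₀⁻¹ * g.1, by rw [mem_stabilizer_iff, mul_smul, g.2, inv_smul_smul]⟩
        invFun := fun g => ⟨g₀ * g.1, by rw [mul_smul, g.2]⟩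
        left_inv := fun g => Subtype.ext (mul_inv_cancel_left _ _)
        right_inv := fun g => Subtype.ext (inv_mul_cancel_left _ _) }
  rw [← P.sum_R_invol, Finset.mul_sum,
    ← Finset.sum_fiberwise Finset.univ (fun g : G => g • P.tPt)]
  refine Finset.sum_congr rfl fun s _ => ?_
  rw [Finset.sum_congr rfl (g := fun _ => P.R (t * s.1)) fun g hg => by
      rw [← (Finset.mem_filter.1 hg).2]; rfl,
    Finset.sum_const, hfib, nsmul_eq_mul]

theorem exists_b (χ : Cfsg.IrrCharacter G) : ∃ v : ℤ, (χ : G → ℂ) t = v :=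
  Fg6.NormThree.exists_int_involution χ (invol_mul_self P.ht.1)

/-- The value at `t`. -/
noncomputable def bv (χ : Cfsg.IrrCharacter G) : ℤ :=
  (P.exists_b χ).choose

theorem bv_spec (χ : Cfsg.IrrCharacter G) : (χ : G → ℂ) t = P.bv χ :=
  (P.exists_b χ).choose_spec

/-- The degree. -/
noncomputable def dg (_P : Hyp G a b t u y K q) (χ : Cfsg.IrrCharacter G) : ℕ :=
  Cfsg.charDegree (χ : G → ℂ)

theorem dg_pos (χ : Cfsg.IrrCharacter G) : 0 < P.dg χ :=
  (H80.ClassMult.deg_spec χ).1

theorem dg_spec (χ : Cfsg.IrrCharacter G) : (χ : G → ℂ) 1 = P.dg χ :=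
  (H80.ClassMult.deg_spec χ).2

theorem sumB : ∑ χ : Cfsg.IrrCharacter G, (P.M χ : ℤ) * P.bv χ = (Nat.card K : ℤ) - 1 := by
  have h := P.R_eq t
  rw [P.R_t] at h
  simp only [P.bv_spec] at h
  exact_mod_cast h.symm

/-- Every constituent has degree `n` times its value at `t`. -/
theorem dg_eq {χ : Cfsg.IrrCharacter G} (hχ : 0 < P.M χ) :
    (P.dg χ : ℤ) = (Nat.card Ω : ℤ) * P.bv χ ∧ 1 ≤ P.bv χ := by
  set n : ℚ := (Nat.card Ω : ℚ) with hn
  set m : ℚ := (Nat.card K : ℚ) with hm
  have hn0 : 0 < n := by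
    rw [hn]; exact_mod_cast (lt_trans Nat.one_pos P.one_lt_points)
  have h1 : ∑ ψ : Cfsg.IrrCharacter G, (P.M ψ : ℚ) * P.dg ψ = n * (m - 1) := by
    have h := P.R_eq 1
    rw [P.R_one] at h
    simp only [P.dg_spec] at h
    have h' : ((∑ ψ : Cfsg.IrrCharacter G, (P.M ψ : ℚ) * P.dg ψ : ℚ) : ℂ) =
        ((n * (m - 1) : ℚ) : ℂ) := by
      rw [hn, hm]; push_cast; exact h.symm
    exact_mod_cast h'
  have h2 : ∑ ψ : Cfsg.IrrCharacter G, (P.M ψ : ℚ) * P.bv ψ = m - 1 := by
    rw [hm]; exact_mod_cast P.sumB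
  have h3 : ∑ ψ : Cfsg.IrrCharacter G, (P.M ψ : ℚ) * (P.bv ψ : ℚ) ^ 2 / P.dg ψ = (m - 1) / n := by
    have h : (Nat.card (stabilizer G P.tPt) : ℂ) * ((Nat.card K : ℂ) * ((Nat.card K : ℂ) - 1)) =
        (Nat.card G : ℂ) * ∑ ψ : Cfsg.IrrCharacter G,
          (P.M ψ : ℂ) * (P.bv ψ : ℂ) ^ 2 / (P.dg ψ : ℂ) := by
      rw [← P.sum_R_conj, Finset.mul_sum]
      simp only [P.R_eq]
      rw [Finset.sum_comm]
      refine Finset.sum_congr rfl fun ψ _ => ?_
      rw [← Finset.mul_sum, H80.ClassMult.sum_apply_mul_conj, P.bv_spec, P.dg_spec]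
      ring
    rw [← P.card_stab_mul] at h
    push_cast at h
    have hC : (Nat.card (stabilizer G P.tPt) : ℂ) * (Nat.card K : ℂ) ≠ 0 :=
      mul_ne_zero (subgroup_card_ne_zero _) (subgroup_card_ne_zero _)
    have h' : (Nat.card Ω : ℂ) * ∑ ψ : Cfsg.IrrCharacter G,
          (P.M ψ : ℂ) * (P.bv ψ : ℂ) ^ 2 / (P.dg ψ : ℂ) = (Nat.card K : ℂ) - 1 :=
      mul_left_cancel₀ hC (by linear_combination -h)
    rw [eq_div_iff hn0.ne', mul_comm]
    have h'' : ((n * ∑ ψ : Cfsg.IrrCharacter G,
          (P.M ψ : ℚ) * (P.bv ψ : ℚ) ^ 2 / P.dg ψ : ℚ) : ℂ) = ((m - 1 : ℚ) : ℂ) := by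
      rw [hn, hm]; push_cast; exact h'
    exact_mod_cast h''
  have hpos : ∀ ψ : Cfsg.IrrCharacter G, (0 : ℚ) < P.dg ψ := fun ψ => by
    exact_mod_cast P.dg_pos ψ
  have hterm : ∀ ψ : Cfsg.IrrCharacter G,
      (P.M ψ : ℚ) * ((P.dg ψ : ℚ) - n * P.bv ψ) ^ 2 / P.dg ψ =
        (P.M ψ : ℚ) * P.dg ψ - 2 * n * ((P.M ψ : ℚ) * P.bv ψ) +
          n ^ 2 * ((P.M ψ : ℚ) * (P.bv ψ : ℚ) ^ 2 / P.dg ψ) := by
    intro ψ
    have := (hpos ψ).ne'
    field_simp
    ring
  have hzero : ∑ ψ : Cfsg.IrrCharacter G,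
      (P.M ψ : ℚ) * ((P.dg ψ : ℚ) - n * P.bv ψ) ^ 2 / P.dg ψ = 0 := by
    simp only [hterm, Finset.sum_add_distrib, Finset.sum_sub_distrib, ← Finset.mul_sum, h1, h2, h3]
    field_simp
    ring
  have hx := (Finset.sum_eq_zero_iff_of_nonneg fun ψ _ => by
    have := hpos ψ; positivity).1 hzero χ (Finset.mem_univ χ)
  rw [div_eq_zero_iff, or_iff_left (hpos χ).ne', mul_eq_zero,
    or_iff_right (Nat.cast_ne_zero.2 hχ.ne'), sq_eq_zero_iff, sub_eq_zero] at hx
  have he : (P.dg χ : ℤ) = (Nat.card Ω : ℤ) * P.bv χ := by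
    rw [hn] at hx; exact_mod_cast hx
  refine ⟨he, ?_⟩
  by_contra hb
  have hb' : P.bv χ ≤ 0 := by omega
  have := mul_nonpos_of_nonneg_of_nonpos (Int.natCast_nonneg (Nat.card Ω)) hb'
  have := P.dg_pos χ
  omega

/-- The norm of `R`. -/
theorem norm_R : ∑ χ : Cfsg.IrrCharacter G, (P.M χ : ℤ) ^ 2 =
    (Nat.card (orbitRel.Quotient (stabilizer G P.tPt) (Invol G)) : ℤ) - 2 := by
  haveI := P.finite_points
  haveI := P.fix.trans
  haveI := P.pretransitive
  have e : Cfsg.classInner P.R P.R = ∑ χ : Cfsg.IrrCharacter G, (P.M χ : ℂ) ^ 2 := by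
    conv_lhs => arg 2; rw [classFunction_eq_sum P.isClassFunction_R]
    rw [classInner_sum_right]
    refine Finset.sum_congr rfl fun χ _ => ?_
    rw [classInner_smul_right, P.M_spec, map_natCast, pow_two]
  have hpi : Cfsg.classInner (permChar (Invol G) : G → ℂ) (permChar Ω) = 2 := by
    rw [Perm.classInner_permChar₂, Perm.card_orbits_prod Ω P.tPt, P.orbits_cen_points]
    norm_num
  have hR : P.R = (permChar (Invol G) : G → ℂ) - permChar Ω := rfl
  have e2 : Cfsg.classInner P.R P.R =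
      (Nat.card (orbitRel.Quotient (stabilizer G P.tPt) (Invol G)) : ℂ) - 2 := by
    rw [hR, classInner_sub_left, classInner_sub_right, classInner_sub_right,
      ← classInner_conj_symm (permChar (Invol G) : G → ℂ) (permChar Ω), hpi,
      Perm.classInner_permChar₂, Perm.classInner_permChar₂,
      Perm.card_orbits_prod (Invol G) P.tPt, Perm.card_orbits_prod Ω a, P.orbits_stab_points]
    rw [map_ofNat]
    push_cast
    ring
  exact_mod_cast e.symm.trans e2

theorem sum_M_mult (lam : K →* ℂˣ) :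
    (Nat.card K : ℂ) * ∑ χ : Cfsg.IrrCharacter G, (P.M χ : ℂ) * mult K χ lam =
      (Nat.card Ω : ℂ) * ((Nat.card K : ℂ) - 1) + 2 -
        2 * (if lam = 1 then (Nat.card K : ℂ) else 0) := by
  have hs : ∑ k : K, conj ((lam k : ℂ)) = if lam = 1 then (Nat.card K : ℂ) else 0 := by
    rw [← P.sum_conj_mul lam 1]
    simp
  calc (Nat.card K : ℂ) * ∑ χ : Cfsg.IrrCharacter G, (P.M χ : ℂ) * mult K χ lam
      = ∑ k : K, conj ((lam k : ℂ)) * P.R k := by
        simp only [mult_spec, Finset.mul_sum, P.R_eq]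
        rw [Finset.sum_comm]
        refine Finset.sum_congr rfl fun k _ => Finset.sum_congr rfl fun χ _ => ?_
        field_simp [subgroup_card_ne_zero K]
    _ = ∑ k : K, (conj ((lam k : ℂ)) * (-2) +
          if k = 1 then (Nat.card Ω : ℂ) * ((Nat.card K : ℂ) - 1) + 2 else 0) := by
        refine Finset.sum_congr rfl fun k _ => ?_
        split_ifs with hk
        · subst hk
          rw [OneMemClass.coe_one, P.R_one, map_one, Units.val_one, map_one]
          ring
        · rw [P.R_K k.2 fun h => hk (Subtype.ext h), add_zero]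
    _ = _ := by
        rw [Finset.sum_add_distrib, ← Finset.sum_mul, hs, Finset.sum_ite_eq' Finset.univ (1 : K),
          if_pos (Finset.mem_univ _)]
        ring

omit [Fintype (Cfsg.IrrCharacter G)] in
/-- The second character on the points. -/
theorem exists_theta : ∃ θ : Cfsg.IrrCharacter G,
    (∀ g, (θ : G → ℂ) g = permChar Ω g - 1) ∧ θ ≠ oneChar G ∧ P.M θ = 0 ∧ P.M (oneChar G) = 0 := by
  haveI := P.finite_points
  haveI := P.fix.trans
  haveI := P.pretransitive
  haveI : Nonempty Ω := ⟨a⟩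
  haveI : Nonempty (Invol G) := ⟨P.tPt⟩
  have hchar := isCharacter_permChar_sub_one (G := G) Ω
  have h11 : Cfsg.classInner (fun _ : G => (1 : ℂ)) (fun _ : G => (1 : ℂ)) = 1 :=
    classInner_self_irr (oneChar G)
  have hπ1 := classInner_permChar_one (G := G) Ω
  have h1π : Cfsg.classInner (fun _ : G => (1 : ℂ)) (permChar Ω) = 1 := by
    rw [← classInner_conj_symm, hπ1, map_one]
  have hππ : Cfsg.classInner (permChar Ω : G → ℂ) (permChar Ω) = 2 := by
    rw [Perm.classInner_permChar₂, Perm.card_orbits_prod Ω a, P.orbits_stab_points]; norm_num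
  have hfun : (fun g => permChar Ω g - 1 : G → ℂ) = permChar Ω - fun _ : G => (1 : ℂ) := rfl
  have hirr : Cfsg.IsIrrCharacter G (fun g => permChar Ω g - 1) := by
    refine isIrrCharacter_of_classInner_self hchar ?_
    rw [hfun, classInner_sub_left, classInner_sub_right, classInner_sub_right, hππ, hπ1, h1π, h11]
    ring
  have hM1 : P.M (oneChar G) = 0 := by
    have h := P.M_spec (oneChar G)
    rw [show P.R = (permChar (Invol G) : G → ℂ) - permChar Ω from rfl,
      show ((oneChar G : Cfsg.IrrCharacter G) : G → ℂ) = fun _ => (1 : ℂ) from rfl,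
      classInner_sub_left, classInner_permChar_one, hπ1, sub_self] at h
    exact_mod_cast h.symm
  refine ⟨⟨_, hirr⟩, fun g => rfl, fun h => ?_, ?_, hM1⟩
  · have e := congrArg (fun χ : Cfsg.IrrCharacter G => (χ : G → ℂ) t) h
    simp only [oneChar_apply, permChar, P.card_fixedBy_points_t] at e
    norm_num at e
  · have h := P.M_spec ⟨_, hirr⟩
    rw [show P.R = (permChar (Invol G) : G → ℂ) - permChar Ω from rfl,
      show ((⟨_, hirr⟩ : Cfsg.IrrCharacter G) : G → ℂ) = permChar Ω - fun _ : G => (1 : ℂ)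
        from rfl,
      classInner_sub_left, classInner_sub_right, classInner_sub_right, hππ, hπ1,
      classInner_permChar_one, Perm.classInner_permChar₂, Perm.card_orbits_prod Ω P.tPt,
      P.orbits_cen_points] at h
    norm_num at h
    exact_mod_cast h.symm

theorem mult_const {θ : Cfsg.IrrCharacter G} (c : ℂ) (h : ∀ k ∈ K, k ≠ 1 → (θ : G → ℂ) k = c)
    (lam : K →* ℂˣ) :
    (Nat.card K : ℂ) * mult K θ lam =
      (θ : G → ℂ) 1 - c + if lam = 1 then c * Nat.card K else 0 := by
  have hs : ∑ k : K, conj ((lam k : ℂ)) = if lam = 1 then (Nat.card K : ℂ) else 0 := by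
    rw [← P.sum_conj_mul lam 1]
    simp
  rw [mult_spec, ← mul_assoc, mul_inv_cancel₀ (subgroup_card_ne_zero K), one_mul]
  calc ∑ k : K, (θ : G → ℂ) k * conj ((lam k : ℂ))
      = ∑ k : K, (c * conj ((lam k : ℂ)) + if k = 1 then (θ : G → ℂ) 1 - c else 0) := by
        refine Finset.sum_congr rfl fun k _ => ?_
        split_ifs with hk
        · subst hk
          rw [OneMemClass.coe_one, map_one, Units.val_one, map_one]
          ring
        · rw [h k k.2 fun e => hk (Subtype.ext e), add_zero]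
    _ = _ := by
        rw [Finset.sum_add_distrib, ← Finset.mul_sum, hs, Finset.sum_ite_eq' Finset.univ (1 : K),
          if_pos (Finset.mem_univ _), mul_ite, mul_zero]
        ring

end Hyp

theorem pow_bounds : ∀ {q : ℕ}, 7 ≤ q → 9 * q + 1 ≤ 2 ^ (q - 1) ∧ q * q ≤ 2 ^ (q - 1) := by
  intro q hq
  induction q, hq using Nat.le_induction with
  | base => decide
  | succ q hq ih =>
    obtain ⟨h1, h2⟩ := ih
    have e : 2 ^ (q + 1 - 1) = 2 * 2 ^ (q - 1) := by
      rw [← pow_succ']; congr 1; omega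
    rw [e]
    exact ⟨by omega, by nlinarith⟩

namespace Hyp

variable {Ω : Type u₂} [MulAction G Ω] {a b : Ω} {t u y : G} {K : Subgroup G} {q : ℕ}
  (P : Hyp G a b t u y K q)
include P

theorem hqN {N : ℕ} (hN : 2 * q * N + 1 = Nat.card K) :
    ((q : ℤ) = 3 ∧ (N : ℤ) = 1) ∨ ((q : ℤ) = 5 ∧ (N : ℤ) = 3) ∨
      (7 ≤ (q : ℤ) ∧ 9 ≤ (N : ℤ) ∧ (q : ℤ) - 2 ≤ N) := by
  rw [P.card_K] at hN
  have h3 := P.three_le_q
  by_cases h7 : 7 ≤ q
  · right; right
    obtain ⟨h1, h2⟩ := pow_bounds h7
    have e : 2 ^ q = 2 * 2 ^ (q - 1) := by rw [← pow_succ']; congr 1; omega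
    have hqN : q * N + 1 = 2 ^ (q - 1) := by
      have : 1 ≤ 2 ^ q := Nat.one_le_two_pow
      have : 2 * (q * N) = 2 * q * N := by ring
      omega
    refine ⟨by exact_mod_cast h7, ?_, ?_⟩
    · have : 9 ≤ N := by nlinarith
      exact_mod_cast this
    · have : q ≤ N + 2 := by nlinarith
      omega
  · obtain rfl | rfl : q = 3 ∨ q = 5 := by
      obtain ⟨j, hj⟩ := P.odd_q
      omega
    · left; norm_num at hN ⊢; omega
    · right; left; norm_num at hN ⊢; omega

/-- The count: an element centralising `t` moves each involution at `a` within its `⟨y⟩`-orbit. -/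
theorem separated {g : G} (hg : g * t = t * g) {s : G} (hs : s ∈ invAt G a) :
    ∃ i : ℕ, g * s * g⁻¹ = y ^ i * s * (y ^ i)⁻¹ := by
  letI := Fintype.ofFinite (Cfsg.IrrCharacter G)
  haveI : Finite (K →* ℂˣ) :=
    Finite.of_injective _ (Characters.Linear.linChar_injective (G := K))
  letI := Fintype.ofFinite (K →* ℂˣ)
  haveI : Finite P.Idx := Finite.of_surjective _ Quotient.mk_surjective
  letI := Fintype.ofFinite P.Idx
  have hN := P.card_Idx
  set N := Fintype.card P.Idx with hNdef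
  obtain ⟨θ, hθ, hθ1, hMθ, hM1⟩ := P.exists_theta
  have hm0 : (Nat.card K : ℂ) ≠ 0 := subgroup_card_ne_zero K
  have hmZ : (Nat.card K : ℤ) ≠ 0 := by exact_mod_cast Nat.card_pos.ne'
  have hθK : ∀ k ∈ K, k ≠ 1 → (θ : G → ℂ) k = 1 := fun k hk hk1 => by
    rw [hθ, permChar, P.card_fixedBy_points_K hk hk1]; norm_num
  have hθ_one : (θ : G → ℂ) 1 = (Nat.card Ω : ℂ) - 1 := by
    haveI := P.finite_points
    rw [hθ, permChar, fixedBy_one_eq_univ, Nat.card_univ]
  have hθi : ∀ i : P.Idx, (Nat.card K : ℤ) * mult K θ (P.rep i) = (Nat.card Ω : ℤ) - 2 := by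
    intro i
    have h := P.mult_const 1 hθK (P.rep i)
    rw [if_neg (P.rep_ne i), hθ_one] at h
    have h' : ((Nat.card K * mult K θ (P.rep i) : ℤ) : ℂ) = (((Nat.card Ω : ℤ) - 2 : ℤ) : ℂ) := by
      push_cast; rw [h]; ring
    exact_mod_cast h'
  have hθ0 : (Nat.card K : ℤ) * mult K θ 1 = (Nat.card Ω : ℤ) - 2 + Nat.card K := by
    have h := P.mult_const 1 hθK 1
    rw [if_pos rfl, hθ_one] at h
    have h' : ((Nat.card K * mult K θ 1 : ℤ) : ℂ) =
        (((Nat.card Ω : ℤ) - 2 + Nat.card K : ℤ) : ℂ) := by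
      push_cast; rw [h]; ring
    exact_mod_cast h'
  have h1i : ∀ i : P.Idx, mult K (oneChar G) (P.rep i) = 0 := by
    intro i
    have h := P.mult_const 1 (θ := oneChar G) (fun _ _ _ => rfl) (P.rep i)
    rw [if_neg (P.rep_ne i), oneChar_apply, sub_self, add_zero, mul_eq_zero,
      or_iff_right hm0] at h
    exact_mod_cast h
  have h10 : mult K (oneChar G) 1 = 1 := by
    have h := P.mult_const 1 (θ := oneChar G) (fun _ _ _ => rfl) 1
    rw [if_pos rfl, oneChar_apply, sub_self, zero_add, one_mul, mul_eq_left₀ hm0] at h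
    exact_mod_cast h
  have hiN : 0 < N := by
    by_contra h
    have := P.seven_le
    rw [← hN, show N = 0 by omega] at this
    omega
  obtain ⟨i₀⟩ := Fintype.card_pos_iff.1 (hNdef ▸ hiN)
  have hsM : ∀ i : P.Idx, ∑ χ : Cfsg.IrrCharacter G, (P.M χ : ℤ) *
      ((mult K χ 1 : ℤ) - mult K χ (P.rep i)) = -2 := by
    intro i
    have h : (Nat.card K : ℂ) * ∑ χ : Cfsg.IrrCharacter G, (P.M χ : ℂ) *
        ((mult K χ 1 : ℂ) - mult K χ (P.rep i)) = (Nat.card K : ℂ) * (-2) := by
      simp only [mul_sub, Finset.sum_sub_distrib]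
      rw [P.sum_M_mult, P.sum_M_mult, if_pos rfl, if_neg (P.rep_ne i)]
      ring
    exact_mod_cast mul_left_cancel₀ hm0 h
  have hnorm : 2 * (N : ℤ) + 1 ≤ ∑ χ : Cfsg.IrrCharacter G, (P.M χ : ℤ) ^ 2 := by
    have := P.le_orbits_invol hN
    rw [P.norm_R]
    omega
  have D : Arith.Data (fun i χ => (mult K χ (P.rep i) : ℤ)) (fun χ => (mult K χ 1 : ℤ)) P.bv
      P.dg P.M (q : ℤ) (Nat.card K : ℤ) (Nat.card Ω : ℤ) (N : ℤ) (oneChar G) θ :=
    { hN := rfl
      hm := by exact_mod_cast hN.symm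
      hqN := P.hqN hN
      pos := P.dg_pos
      deg := fun χ => by
        have h := P.deg_eq χ
        rw [P.dg_spec] at h
        exact_mod_cast h
      dist := P.dist
      orth := fun i j => by
        have h := P.orth i j
        simp only [P.dg_spec] at h
        exact_mod_cast h
      orthM := fun i j => by
        have e : ∀ χ : Cfsg.IrrCharacter G, (P.M χ : ℤ) *
            ((mult K χ (P.rep i) : ℤ) - mult K χ (P.rep j)) =
            (P.M χ : ℤ) * ((mult K χ 1 : ℤ) - mult K χ (P.rep j)) -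
              (P.M χ : ℤ) * ((mult K χ 1 : ℤ) - mult K χ (P.rep i)) := fun χ => by ring
        simp only [e, Finset.sum_sub_distrib, hsM, sub_self]
      sqSum := P.sq_sum
      sumM := by
        have e : ∀ χ : Cfsg.IrrCharacter G, (P.M χ : ℤ) *
            ((N : ℤ) * mult K χ 1 - ∑ i : P.Idx, (mult K χ (P.rep i) : ℤ)) =
            ∑ i : P.Idx, (P.M χ : ℤ) * ((mult K χ 1 : ℤ) - mult K χ (P.rep i)) := fun χ => by
          rw [← Finset.mul_sum, Finset.sum_sub_distrib, Finset.sum_const, Finset.card_univ,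
            nsmul_eq_mul, hNdef]
        simp only [e]
        rw [Finset.sum_comm, Finset.sum_congr rfl fun i _ => hsM i, Finset.sum_const,
          Finset.card_univ, nsmul_eq_mul, hNdef]
        ring
      sumB := P.sumB
      prop := fun χ hχ => P.dg_eq hχ
      hn := ⟨_, (hθi i₀).symm⟩
      norm := hnorm
      ne := Ne.symm hθ1
      zero₀ := hM1
      zero₁ := hMθ
      w₀ := by simp [h10, h1i]
      w₁ := by
        have e : ∀ i : P.Idx, (mult K θ (P.rep i) : ℤ) = (mult K θ 1 : ℤ) - 1 := fun i =>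
          mul_left_cancel₀ hmZ (by linear_combination hθi i - hθ0)
        simp only [e, Finset.sum_const, Finset.card_univ, nsmul_eq_mul, ← hNdef]
        ring
      const₀ := fun i j => by simp [h1i]
      const₁ := fun i j => mul_left_cancel₀ hmZ ((hθi i).trans (hθi j).symm) }
  have hres := Arith.norm_eq D
  rw [P.norm_R] at hres
  exact P.exists_pow_conj hN (by omega) hg hs

end Hyp

end Cfsg.Agent.Lib.BenderOne67.C2
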