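import Mathlib
import Cfsg.Agent.Lib.BenderOne67.C2.Count

/-!
# Endgame of node C2: the centraliser of the involutions at `a` is regular on the other points

An element centralising `t` moves each involution at `a` within its `⟨y⟩`-orbit.  Few subgroups
with trivial pairwise intersections do not cover a group of order `2 ^ q` or `2 ^ q - 1`, so it acts
on all these involutions as one power of `y`.
-/

set_option autoImplicit false
set_option linter.style.haveILetI false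
set_option linter.unusedSectionVars false

namespace Cfsg.Agent.Lib.BenderOne67.C2

open MulAction Cfsg.Agent.Lib.Involutions.Basic
open Cfsg.Agent.Lib.BenderOne20
open scoped Classical

universe u₁ u₂ u₃

/-- Subgroups with trivial intersections covering a group, all but the largest small. -/
theorem exists_top_of_cover {A : Type u₃} [Group A] [Finite A] {ι : Type*} [Fintype ι]
    (S : ι → Subgroup A) (hcov : ∀ x : A, ∃ i, x ∈ S i)
    (hdis : ∀ i j : ι, ∀ x : A, x ∈ S i → x ∈ S j → i ≠ j → x = 1)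
    (hb : ∀ d : ℕ, d ∣ Nat.card A → d * d ≤ Nat.card A →
      2 * ((Fintype.card ι - 1) * (d - 1)) < Nat.card A) : ∃ i, S i = ⊤ := by
  by_contra hno
  push Not at hno
  haveI : Nonempty ι := ⟨(hcov 1).choose⟩
  haveI := Fintype.ofFinite A
  obtain ⟨i₀, -, hmax⟩ := Finset.exists_max_image Finset.univ (fun i => Nat.card (S i))
    Finset.univ_nonempty
  set M := Nat.card A with hM
  have hB : 2 * Nat.card (S i₀) ≤ M := by
    obtain ⟨c, hc⟩ := (S i₀).card_subgroup_dvd_card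
    rw [hM, hc]
    rcases c with _ | _ | c
    · have : 0 < M := Nat.card_pos
      rw [hM, hc] at this; simp at this
    · exact absurd (Subgroup.card_eq_iff_eq_top _ |>.1 (by simpa using hc.symm)) (hno i₀)
    · nlinarith
  have hsmall : ∀ j, j ≠ i₀ → 2 * ((Fintype.card ι - 1) * (Nat.card (S j) - 1)) < M := by
    intro j hj
    refine hb _ (S j).card_subgroup_dvd_card ?_
    refine le_trans (Nat.mul_le_mul_right _ (hmax j (Finset.mem_univ j))) ?_
    rw [← Nat.card_prod]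
    refine Nat.card_le_card_of_injective (fun p : S i₀ × S j => (p.1 : A) * p.2) fun p p' h => ?_
    have h' : (p.1 : A) * p.2 = p'.1 * p'.2 := h
    have h1 : (p'.1 : A)⁻¹ * p.1 = p'.2 * (p.2 : A)⁻¹ := by
      calc (p'.1 : A)⁻¹ * p.1 = (p'.1 : A)⁻¹ * (p.1 * p.2) * (p.2 : A)⁻¹ := by group
        _ = p'.2 * (p.2 : A)⁻¹ := by rw [h']; group
    have h2 := hdis i₀ j _ (mul_mem (inv_mem p'.1.2) p.1.2)
      (h1 ▸ mul_mem p'.2.2 (inv_mem p.2.2)) (Ne.symm hj)
    refine Prod.ext (Subtype.ext (inv_mul_eq_one.1 h2).symm) (Subtype.ext ?_)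
    exact (mul_inv_eq_one.1 (h1.symm.trans h2)).symm
  -- every non-trivial element lies in some member
  have hcount : M - 1 ≤ ∑ i : ι, (Nat.card (S i) - 1) := by
    have hsub : (Finset.univ.erase (1 : A)) ⊆
        Finset.univ.biUnion fun i : ι => (Finset.univ.filter (· ∈ S i)).erase 1 := by
      intro x hx
      obtain ⟨i, hi⟩ := hcov x
      exact Finset.mem_biUnion.2 ⟨i, Finset.mem_univ _, Finset.mem_erase.2
        ⟨Finset.ne_of_mem_erase hx, Finset.mem_filter.2 ⟨Finset.mem_univ _, hi⟩⟩⟩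
    have h := (Finset.card_le_card hsub).trans Finset.card_biUnion_le
    rw [Finset.card_erase_of_mem (Finset.mem_univ _), Finset.card_univ,
      ← Nat.card_eq_fintype_card] at h
    refine h.trans (Finset.sum_le_sum fun i _ => le_of_eq ?_)
    rw [Finset.card_erase_of_mem (Finset.mem_filter.2 ⟨Finset.mem_univ _, (S i).one_mem⟩),
      ← Fintype.card_subtype, ← Nat.card_eq_fintype_card]
  rw [← Finset.add_sum_erase _ _ (Finset.mem_univ i₀)] at hcount
  have hpos : 0 < Nat.card (S i₀) := Nat.card_pos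
  by_cases hne : (Finset.univ.erase i₀ : Finset ι).Nonempty
  · obtain ⟨j₁, hj₁, hmax₁⟩ := Finset.exists_max_image _ (fun i => Nat.card (S i)) hne
    have h1 : ∑ i ∈ Finset.univ.erase i₀, (Nat.card (S i) - 1) ≤
        (Fintype.card ι - 1) * (Nat.card (S j₁) - 1) := by
      refine (Finset.sum_le_card_nsmul _ _ _ fun i hi =>
        Nat.sub_le_sub_right (hmax₁ i hi) 1).trans (le_of_eq ?_)
      rw [Finset.card_erase_of_mem (Finset.mem_univ _), Finset.card_univ, smul_eq_mul]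
    have := hsmall j₁ (Finset.ne_of_mem_erase hj₁)
    omega
  · rw [Finset.not_nonempty_iff_eq_empty.1 hne, Finset.sum_empty] at hcount
    omega

theorem four_mul_lt : ∀ {s : ℕ}, 5 ≤ s → 4 * s + 1 ≤ 2 ^ s := by
  intro s hs
  induction s, hs using Nat.le_induction with
  | base => decide
  | succ s hs ih =>
    have : 2 ^ (s + 1) = 2 * 2 ^ s := pow_succ' 2 s
    omega

/-- Divisors below the square root of `2 ^ q` or `2 ^ q - 1` are small. -/
theorem small_divisor {q M : ℕ} (hq : q.Prime) (hodd : Odd q) (hM : M = 2 ^ q ∨ M = 2 ^ q - 1)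
    {d : ℕ} (hd : d ∣ M) (hdd : d * d ≤ M) : 2 * ((q - 1) * (d - 1)) < M := by
  by_cases h11 : 11 ≤ q
  · obtain ⟨s, rfl⟩ := hodd
    have h4 := four_mul_lt (show 5 ≤ s by omega)
    have e : 2 ^ (2 * s + 1) = 2 * (2 ^ s * 2 ^ s) := by
      rw [pow_succ', two_mul s, pow_add]
    have h7 : 1 ≤ 2 ^ s := Nat.one_le_two_pow
    rw [e] at hM
    clear e hd hq
    generalize 2 ^ s = w at *
    have hd1 : d < 2 * w := by
      by_contra h
      push Not at h
      have := Nat.mul_le_mul h h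
      have : 0 < w * w := Nat.mul_pos h7 h7
      have : 2 * w * (2 * w) = 4 * (w * w) := by ring
      omega
    have h5 : (4 * s + 1) * w ≤ w * w := Nat.mul_le_mul_right _ h4
    have h6 : (2 * s + 1 - 1) * (d - 1) ≤ 2 * s * (2 * w) :=
      Nat.mul_le_mul (by omega) (by omega)
    have h8 : (4 * s + 1) * w = 2 * s * (2 * w) + w := by ring
    omega
  · have hoq := Nat.odd_iff.1 hodd
    have hd12 : d < 12 := by
      by_contra h
      push Not at h
      have := Nat.mul_le_mul h h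
      have : 2 ^ q ≤ 2 ^ 7 := Nat.pow_le_pow_right (by norm_num) (by
        by_contra h7
        interval_cases q <;> first | omega | norm_num at hq)
      omega
    have hq' : q = 3 ∨ q = 5 ∨ q = 7 := by
      have := hq.two_le
      interval_cases q <;> first | omega | norm_num at hq
    rcases hq' with rfl | rfl | rfl <;> rcases hM with rfl | rfl <;> norm_num at hd hdd ⊢ <;>
      interval_cases d <;> omega

namespace Hyp

variable {G : Type u₁} [Group G] [Fintype G] {Ω : Type u₂} [MulAction G Ω] {a b : Ω} {t u y : G}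
  {K : Subgroup G} {q : ℕ} (P : Hyp G a b t u y K q)
include P

/-- The involutions at `a` with `1`. -/
def E : Subgroup G where
  carrier := {s | s = 1 ∨ s ∈ invAt G a}
  one_mem' := Or.inl rfl
  inv_mem' := by
    rintro s (rfl | hs)
    · exact Or.inl inv_one
    · exact Or.inr (by rwa [invol_inv hs.1])
  mul_mem' := by
    rintro s r (rfl | hs) hr
    · rwa [one_mul]
    rcases hr with rfl | hr
    · rw [mul_one]; exact Or.inr hs
    by_cases e : s * r = 1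
    · exact Or.inl e
    refine Or.inr ⟨invol_iff.2 ⟨?_, e⟩, by rw [mul_smul, hr.2, hs.2]⟩
    calc s * r * (s * r) = s * (r * s) * r := by group
      _ = (s * s) * (r * r) := by rw [← P.comm s hs r hr]; group
      _ = 1 := by rw [invol_mul_self hs.1, invol_mul_self hr.1, one_mul]

theorem mem_E {s : G} : s ∈ P.E ↔ s = 1 ∨ s ∈ invAt G a :=
  Iff.rfl

theorem card_E : Nat.card P.E = 2 ^ q := by
  have h1 : (1 : G) ∉ invAt G a := fun h => by simpa using h.1
  have h : (P.E : Set G) = insert 1 (invAt G a) := Set.ext fun s => by simp [P.mem_E]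
  rw [← SetLike.coe_sort_coe, h, Nat.card_coe_set_eq, Set.ncard_insert_of_notMem h1,
    ← Nat.card_coe_set_eq, P.card]
  have := Nat.one_le_two_pow (n := q)
  omega

/-- Two powers of `y` agree on no non-trivial element of `K`. -/
theorem eq_of_conj_eq {i j : Fin q} {k : G} (hk : k ∈ K) (hk1 : k ≠ 1) {r : G}
    (hr : r ∈ invAt G a)
    (h : (y ^ (i : ℕ) * k * (y ^ (i : ℕ))⁻¹) * r * (y ^ (i : ℕ) * k * (y ^ (i : ℕ))⁻¹)⁻¹ =
      (y ^ (j : ℕ) * k * (y ^ (j : ℕ))⁻¹) * r * (y ^ (j : ℕ) * k * (y ^ (j : ℕ))⁻¹)⁻¹) :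
    i = j := by
  set κ := y ^ (i : ℕ) * k * (y ^ (i : ℕ))⁻¹ with hκ
  set κ' := y ^ (j : ℕ) * k * (y ^ (j : ℕ))⁻¹ with hκ'
  have hκK := P.y_pow_norm i hk
  have hκK' := P.y_pow_norm j hk
  obtain ⟨l, hl, rfl⟩ := P.trans r hr
  have hc : (κ'⁻¹ * κ) * t = t * (κ'⁻¹ * κ) := by
    have e1 : κ * (l * t * l⁻¹) * κ⁻¹ = l * (κ * t * κ⁻¹) * l⁻¹ := by
      have hc : Commute κ l := P.commK _ hκK l hl
      calc κ * (l * t * l⁻¹) * κ⁻¹ = (κ * l) * t * (κ * l)⁻¹ := by group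
        _ = (l * κ) * t * (l * κ)⁻¹ := by rw [hc.eq]
        _ = l * (κ * t * κ⁻¹) * l⁻¹ := by group
    have e2 : κ' * (l * t * l⁻¹) * κ'⁻¹ = l * (κ' * t * κ'⁻¹) * l⁻¹ := by
      have hc : Commute κ' l := P.commK _ hκK' l hl
      calc κ' * (l * t * l⁻¹) * κ'⁻¹ = (κ' * l) * t * (κ' * l)⁻¹ := by group
        _ = (l * κ') * t * (l * κ')⁻¹ := by rw [hc.eq]
        _ = l * (κ' * t * κ'⁻¹) * l⁻¹ := by group
    have e3 : κ * t * κ⁻¹ = κ' * t * κ'⁻¹ :=
      mul_left_cancel (mul_right_cancel (e1.symm.trans (h.trans e2)))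
    calc κ'⁻¹ * κ * t = κ'⁻¹ * (κ * t * κ⁻¹) * κ := by group
      _ = t * (κ'⁻¹ * κ) := by rw [e3]; group
  have heq : κ' = κ := inv_mul_eq_one.1 (P.free _ (mul_mem (inv_mem hκK') hκK) hc)
  by_contra hij
  have hpow : y ^ (i : ℕ) ≠ y ^ (j : ℕ) := fun e => hij (Fin.ext
    (pow_injOn_Iio_orderOf (x := y) (by rw [Set.mem_Iio, P.ordy]; exact i.2)
      (by rw [Set.mem_Iio, P.ordy]; exact j.2) e))
  obtain ⟨n, hn⟩ : ∃ n : ℕ, y ^ n = (y ^ (j : ℕ))⁻¹ * y ^ (i : ℕ) := by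
    obtain ⟨n, -, hn⟩ := Finset.mem_image.1
      ((isOfFinOrder_of_finite y).mem_zpowers_iff_mem_range_orderOf.1
        (mul_mem (inv_mem (pow_mem (Subgroup.mem_zpowers y) (j : ℕ)))
          (pow_mem (Subgroup.mem_zpowers y) (i : ℕ))))
    exact ⟨n, hn⟩
  refine hk1 (P.fpf_pow hk (i := n) ?_ fun e => hpow (inv_mul_eq_one.1 (hn.symm.trans e)).symm)
  refine mul_inv_eq_iff_eq_mul.1 ?_
  rw [hn]
  calc (y ^ (j : ℕ))⁻¹ * y ^ (i : ℕ) * k * ((y ^ (j : ℕ))⁻¹ * y ^ (i : ℕ))⁻¹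
      = (y ^ (j : ℕ))⁻¹ * κ * y ^ (j : ℕ) := by rw [hκ]; group
    _ = k := by rw [← heq, hκ']; group

/-- An element centralising `t` acts on the involutions at `a` as a power of `y`. -/
theorem exists_pow_mul_cen {g : G} (hg : g * t = t * g) :
    ∃ i : ℕ, ∀ s ∈ invAt G a, g * s * g⁻¹ = y ^ i * s * (y ^ i)⁻¹ := by
  have hga : g • a = a := P.fix.smul_eq_of_commute P.ht hg.symm
  have hq0 : 0 < q := P.prime.pos
  -- the twisting exponent at a single pair
  have hpair : ∀ k ∈ K, ∀ s ∈ invAt G a, ∃ i : Fin q,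
      g * (k * s * k⁻¹) * g⁻¹ = (y ^ (i : ℕ) * k * (y ^ (i : ℕ))⁻¹) * (g * s * g⁻¹) *
        (y ^ (i : ℕ) * k * (y ^ (i : ℕ))⁻¹)⁻¹ := by
    intro k hk s hs
    obtain ⟨l, hl, hls⟩ := P.trans s hs
    obtain ⟨l', hl', hls'⟩ := P.trans _ (P.conj_mem_invAt hga hs)
    have hg₂ : (l'⁻¹ * g * l) * t = t * (l'⁻¹ * g * l) := by
      refine mul_inv_eq_iff_eq_mul.1 ?_
      calc l'⁻¹ * g * l * t * (l'⁻¹ * g * l)⁻¹ = l'⁻¹ * (g * (l * t * l⁻¹) * g⁻¹) * l' := by group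
        _ = t := by rw [hls, ← hls']; group
    obtain ⟨n, hn⟩ := P.separated hg₂ (P.conj_mem_invAt (P.smul_a hk) P.ht)
    refine ⟨⟨n % q, Nat.mod_lt _ hq0⟩, ?_⟩
    show _ = (y ^ (n % q) * k * (y ^ (n % q))⁻¹) * _ * _
    rw [show y ^ (n % q) = y ^ n by rw [← P.ordy, pow_mod_orderOf]]
    set κ := y ^ n * k * (y ^ n)⁻¹ with hκ
    have hκK := P.y_pow_norm n hk
    have hκt : y ^ n * (k * t * k⁻¹) * (y ^ n)⁻¹ = κ * t * κ⁻¹ := by
      have e : (y ^ n)⁻¹ * t * y ^ n = t := by rw [mul_assoc, ← P.y_pow_t n, inv_mul_cancel_left]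
      calc y ^ n * (k * t * k⁻¹) * (y ^ n)⁻¹
          = y ^ n * (k * ((y ^ n)⁻¹ * t * y ^ n) * k⁻¹) * (y ^ n)⁻¹ := by rw [e]
        _ = κ * t * κ⁻¹ := by rw [hκ]; group
    rw [hκt] at hn
    calc g * (k * s * k⁻¹) * g⁻¹ = g * ((k * l) * t * (k * l)⁻¹) * g⁻¹ := by rw [← hls]; group
      _ = g * ((l * k) * t * (l * k)⁻¹) * g⁻¹ := by rw [P.commK k hk l hl]
      _ = l' * ((l'⁻¹ * g * l) * (k * t * k⁻¹) * (l'⁻¹ * g * l)⁻¹) * l'⁻¹ := by group
      _ = (l' * κ) * t * (l' * κ)⁻¹ := by rw [hn]; group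
      _ = (κ * l') * t * (κ * l')⁻¹ := by rw [P.commK l' hl' κ hκK]
      _ = κ * (g * s * g⁻¹) * κ⁻¹ := by rw [← hls']; group
  -- constant along the involutions
  have hline : ∀ k ∈ K, ∃ i : Fin q, ∀ s ∈ invAt G a,
      g * (k * s * k⁻¹) * g⁻¹ = (y ^ (i : ℕ) * k * (y ^ (i : ℕ))⁻¹) * (g * s * g⁻¹) *
        (y ^ (i : ℕ) * k * (y ^ (i : ℕ))⁻¹)⁻¹ := by
    intro k hk
    by_cases hk1 : k = 1
    · exact ⟨⟨0, hq0⟩, fun s _ => by simp [hk1]⟩
    let S : Fin q → Subgroup P.E := fun i => MonoidHom.eqLocus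
      (((MulAut.conj g).toMonoidHom.comp (MulAut.conj k).toMonoidHom).comp P.E.subtype)
      (((MulAut.conj (y ^ (i : ℕ) * k * (y ^ (i : ℕ))⁻¹)).toMonoidHom.comp
        (MulAut.conj g).toMonoidHom).comp P.E.subtype)
    have hmem : ∀ (i : Fin q) (s : P.E), s ∈ S i ↔ g * (k * s * k⁻¹) * g⁻¹ =
        (y ^ (i : ℕ) * k * (y ^ (i : ℕ))⁻¹) * (g * s * g⁻¹) *
          (y ^ (i : ℕ) * k * (y ^ (i : ℕ))⁻¹)⁻¹ := fun i s => Iff.rfl
    obtain ⟨i, hi⟩ := exists_top_of_cover S (fun s => by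
        rcases s.2 with h | h
        · exact ⟨⟨0, hq0⟩, (hmem _ _).2 (by simp [h])⟩
        · obtain ⟨i, hi⟩ := hpair k hk _ h
          exact ⟨i, (hmem i s).2 hi⟩)
      (fun i j s hsi hsj hij => by
        rcases s.2 with h | h
        · exact Subtype.ext h
        · exact absurd (P.eq_of_conj_eq hk hk1 (P.conj_mem_invAt hga h)
            (((hmem i s).1 hsi).symm.trans ((hmem j s).1 hsj))) hij)
      (fun d hd hdd => by
        rw [Fintype.card_fin]
        exact small_divisor P.prime P.odd_q (Or.inl P.card_E) hd hdd)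
    exact ⟨i, fun s hs => (hmem i ⟨s, Or.inr hs⟩).1 (hi ▸ Subgroup.mem_top _)⟩
  -- constant along `K`
  have hmov : ∀ k ∈ K, ∀ s ∈ invAt G a, k * s * k⁻¹ ∈ invAt G a := fun k hk s hs =>
    P.conj_mem_invAt (P.smul_a hk) hs
  let B : Fin q → Subgroup K := fun i =>
    { carrier := {k | ∀ s ∈ invAt G a, g * ((k : G) * s * (k : G)⁻¹) * g⁻¹ =
        (y ^ (i : ℕ) * k * (y ^ (i : ℕ))⁻¹) * (g * s * g⁻¹) *
          (y ^ (i : ℕ) * k * (y ^ (i : ℕ))⁻¹)⁻¹}
      one_mem' := fun s _ => by simp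
      mul_mem' := fun {k k'} hk hk' s hs => by
        calc g * (((k : G) * k') * s * ((k : G) * k')⁻¹) * g⁻¹
            = g * ((k : G) * ((k' : G) * s * (k' : G)⁻¹) * (k : G)⁻¹) * g⁻¹ := by group
          _ = _ := by
            rw [hk _ (hmov _ k'.2 _ hs), hk' s hs, Subgroup.coe_mul]
            group
      inv_mem' := fun {k} hk s hs => by
        have h := hk _ (hmov _ (inv_mem k.2) _ hs)
        rw [show (k : G) * ((k : G)⁻¹ * s * ((k : G)⁻¹)⁻¹) * (k : G)⁻¹ = s by group] at h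
        rw [InvMemClass.coe_inv, h]
        group }
  obtain ⟨i, hi⟩ := exists_top_of_cover B (fun k => hline k k.2) (fun i j k hki hkj hij => by
      by_contra hk1
      refine hij (P.eq_of_conj_eq k.2 (fun e => hk1 (Subtype.ext e))
        (P.conj_mem_invAt hga P.ht) ?_)
      exact (hki t P.ht).symm.trans (hkj t P.ht))
    (fun d hd hdd => by
      rw [Fintype.card_fin]
      exact small_divisor P.prime P.odd_q (Or.inr P.card_K) hd hdd)
  refine ⟨(i : ℕ), fun s hs => ?_⟩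
  obtain ⟨k, hk, rfl⟩ := P.trans s hs
  have h : g * (k * t * k⁻¹) * g⁻¹ = (y ^ (i : ℕ) * k * (y ^ (i : ℕ))⁻¹) * (g * t * g⁻¹) *
      (y ^ (i : ℕ) * k * (y ^ (i : ℕ))⁻¹)⁻¹ :=
    (hi ▸ Subgroup.mem_top (⟨k, hk⟩ : K) : (⟨k, hk⟩ : K) ∈ B i) t P.ht
  rw [h, mul_inv_eq_iff_eq_mul.2 hg]
  have e : (y ^ (i : ℕ))⁻¹ * t * y ^ (i : ℕ) = t := by
    rw [mul_assoc, ← P.y_pow_t (i : ℕ), inv_mul_cancel_left]
  calc y ^ (i : ℕ) * k * (y ^ (i : ℕ))⁻¹ * t * (y ^ (i : ℕ) * k * (y ^ (i : ℕ))⁻¹)⁻¹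
      = y ^ (i : ℕ) * (k * ((y ^ (i : ℕ))⁻¹ * t * y ^ (i : ℕ)) * k⁻¹) * (y ^ (i : ℕ))⁻¹ := by group
    _ = _ := by rw [e]

/-- Only `1` fixes a second point and centralises the involutions at `a`. -/
theorem w0_one {d : G} (hd : d ∈ pairStab G a b) (h : ∀ s ∈ invAt G a, d * s = s * d) : d = 1 := by
  obtain ⟨i, rfl⟩ := P.exists_pow_of_comm hd (h t P.ht)
  by_contra hne
  obtain ⟨k, hk, hk1⟩ := P.exists_ne_one
  refine hk1 (P.free k hk ?_)
  have := P.uniq_a i hne (P.conj_mem_invAt (P.smul_a hk) P.ht)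
    (h _ (P.conj_mem_invAt (P.smul_a hk) P.ht))
  exact mul_inv_eq_iff_eq_mul.1 this

/-- The centraliser of the involutions at `a` is regular on the other points. -/
theorem exists_regular : ∃ Q : Subgroup G, Q ≤ stabilizer G a ∧
    (∀ h ∈ stabilizer G a, ∀ c ∈ Q, h * c * h⁻¹ ∈ Q) ∧
    (∀ c ∈ Q, ∀ x, x ≠ a → c • x = x → c = 1) ∧
    ∀ x z, x ≠ a → z ≠ a → ∃ c ∈ Q, c • x = z := by
  set Q := Subgroup.centralizer (invAt G a) with hQ
  have hle : Q ≤ stabilizer G a := fun c hc =>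
    P.fix.smul_eq_of_commute P.ht (Subgroup.mem_centralizer_iff.1 hc t P.ht)
  have hconj : ∀ h ∈ stabilizer G a, ∀ c ∈ Q, h * c * h⁻¹ ∈ Q := by
    intro h hh c hc
    have hh' : h⁻¹ • a = a := inv_smul_eq_iff.2 (mem_stabilizer_iff.1 hh).symm
    refine Subgroup.mem_centralizer_iff.2 fun s hs => ?_
    have hs' := P.conj_mem_invAt hh' hs
    rw [inv_inv] at hs'
    have e := Subgroup.mem_centralizer_iff.1 hc _ hs'
    calc s * (h * c * h⁻¹) = h * ((h⁻¹ * s * h) * c) * h⁻¹ := by group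
      _ = h * c * h⁻¹ * s := by rw [e]; group
  have hfree : ∀ c ∈ Q, ∀ x, x ≠ a → c • x = x → c = 1 := by
    intro c hc x hx hcx
    obtain ⟨h, hha, hhx⟩ := P.two x b hx P.ne
    have hc' := hconj h hha c hc
    refine conj_eq_one_iff.1 (P.w0_one ⟨hle hc', ?_⟩ fun s hs => ?_ : h * c * h⁻¹ = 1)
    · show (h * c * h⁻¹) • b = b
      rw [mul_smul, mul_smul, inv_smul_eq_iff.2 hhx.symm, hcx, hhx]
    · exact (Subgroup.mem_centralizer_iff.1 hc' s hs).symm
  -- the orbit of `b`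
  have horb : ∀ x, x ≠ a → ∃ c ∈ Q, c • b = x := by
    intro x hx
    obtain ⟨g, hg, hgb⟩ := P.exists_cen_smul hx
    obtain ⟨i, hi⟩ := P.exists_pow_mul_cen (P.mem_stab_tPt.1 hg)
    have hz : (y ^ i)⁻¹ * g ∈ Q := by
      refine Subgroup.mem_centralizer_iff.2 fun s hs => ?_
      calc s * ((y ^ i)⁻¹ * g) = (y ^ i)⁻¹ * (y ^ i * s * (y ^ i)⁻¹) * g := by group
        _ = (y ^ i)⁻¹ * g * s := by rw [← hi s hs]; group
    refine ⟨y ^ i * ((y ^ i)⁻¹ * g) * (y ^ i)⁻¹, hconj _ (P.y_pow_mem i).1 _ hz, ?_⟩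
    rw [mul_inv_cancel_left, mul_smul, inv_smul_eq_iff.2 ((P.y_pow_mem i).2 : y ^ i • b = b).symm,
      hgb]
  refine ⟨Q, hle, hconj, hfree, fun x z hx hz => ?_⟩
  obtain ⟨c, hc, rfl⟩ := horb x hx
  obtain ⟨c', hc', rfl⟩ := horb z hz
  exact ⟨c' * c⁻¹, mul_mem hc' (inv_mem hc), by rw [mul_smul, inv_smul_smul]⟩

end Hyp

end Cfsg.Agent.Lib.BenderOne67.C2
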