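import Mathlib
import Cfsg.Agent.Lib.BenderOne8.Fixed
import Cfsg.Agent.S3360
import Cfsg.Agent.Lib.ExtPrim.EndField
import Cfsg.Agent.Lib.OddOrder.FeitThompson

/-!
# Node C2, commuting involutions: the two point stabiliser is semilinear

The involutions at `a` with `1` are the additive group of a field of order `2 ^ |X|`, where `X` is a
subgroup of the two point stabiliser centralising just one of them; `X` is the centraliser of that
involution and acts as the Galois group, and the linear part is regular on the involutions.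
-/

set_option autoImplicit false
set_option linter.style.haveILetI false
set_option linter.unusedSectionVars false

namespace Cfsg.Agent.Lib.BenderOne67.C2.Field

open MulAction Cfsg.Agent.Lib.Involutions.Basic
open Cfsg.Agent.Lib.BenderOne20
open scoped Classical

universe u₁ u₂

variable {G : Type u₁} {Ω : Type u₂} [Group G] [MulAction G Ω] {a : Ω}

/-- The commuting involutions at a point with `1`. -/
def invE (hcomm : ∀ s ∈ invAt G a, ∀ r ∈ invAt G a, s * r = r * s) : Subgroup G where
  carrier := {s | s = 1 ∨ s ∈ invAt G a}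
  one_mem' := Or.inl rfl
  inv_mem' := by
    rintro s (rfl | hs)
    · exact Or.inl inv_one
    · exact Or.inr (by rwa [invol_inv hs.1])
  mul_mem' := by
    rintro s r (rfl | hs) hr
    · rwa [one_mul]
    rcases hr with rfl | hr
    · rw [mul_one]; exact Or.inr hs
    by_cases e : s * r = 1
    · exact Or.inl e
    refine Or.inr ⟨invol_iff.2 ⟨?_, e⟩, by rw [mul_smul, hr.2, hs.2]⟩
    calc s * r * (s * r) = s * (r * s) * r := by group
      _ = (s * s) * (r * r) := by rw [← hcomm s hs r hr]; group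
      _ = 1 := by rw [invol_mul_self hs.1, invol_mul_self hr.1, one_mul]

/-- The semilinear structure with the facts used afterwards. -/
theorem facts [Finite G] (hG : OneFix G Ω) {b : Ω} (hba : b ≠ a)
    (hcomm : ∀ s ∈ invAt G a, ∀ r ∈ invAt G a, s * r = r * s)
    (hW0 : ∀ d ∈ pairStab G a b, (∀ s ∈ invAt G a, d * s = s * d) → d = 1)
    {t : G} (ht : t ∈ invAt G a) {X : Subgroup G} (hXD : X ≤ pairStab G a b)
    (hXt : ∀ x ∈ X, x * t = t * x)
    (hXu : ∀ s ∈ invAt G a, (∀ x ∈ X, x * s = s * x) → s = t) :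
    Nat.card (invAt G a) + 1 = 2 ^ Nat.card X ∧
      (∀ d ∈ pairStab G a b, d * t = t * d → d ∈ X) ∧ IsCyclic X ∧
      ∃ K : Subgroup G, K ≤ pairStab G a b ∧
        (∀ d ∈ pairStab G a b, ∀ k ∈ K, d * k * d⁻¹ ∈ K) ∧
        (∀ k ∈ K, ∀ k' ∈ K, k * k' = k' * k) ∧
        (∀ k ∈ K, k * t = t * k → k = 1) ∧
        ∀ d ∈ pairStab G a b, ∃ k ∈ K, ∃ x ∈ X, d = k * x := by
  set D := pairStab G a b with hD
  set E := invE hcomm with hE
  haveI : Finite (Additive E) := inferInstanceAs (Finite E)
  have hEcomm : ∀ v w : E, v * w = w * v := by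
    intro v w
    refine Subtype.ext ?_
    rcases v.2 with h | h
    · simp [h]
    rcases w.2 with h' | h'
    · simp [h']
    exact hcomm _ h _ h'
  letI : CommGroup E := { (inferInstance : Group E) with mul_comm := hEcomm }
  have htwo : ∀ v : Additive E, (2 : ℕ) • v = 0 := by
    intro v
    have h : (Additive.toMul v) ^ 2 = 1 := by
      refine Subtype.ext ?_
      rw [SubmonoidClass.coe_pow, pow_two, OneMemClass.coe_one]
      rcases (Additive.toMul v).2 with h | h
      · rw [h, one_mul]
      · exact invol_mul_self h.1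
    exact h
  letI : Module (ZMod 2) (Additive E) := AddCommGroup.zmodModule htwo
  haveI : Fact (Nat.Prime 2) := ⟨Nat.prime_two⟩
  have htE : t ∈ E := Or.inr ht
  haveI : Nontrivial (Additive E) :=
    ⟨⟨Additive.ofMul ⟨t, htE⟩, 0, fun h => invol_ne_one ht.1 (congrArg Subtype.val h)⟩⟩
  have hmem : ∀ d : D, ∀ s ∈ E, (d : G) * s * (d : G)⁻¹ ∈ E := by
    rintro d s (rfl | hs)
    · exact Or.inl (by group)
    · have h := OneFix.conj_mem_invAt (g := (d : G)) hs
      rw [(d.2.1 : (d : G) • a = a)] at h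
      exact Or.inr h
  let cE : D → E ≃* E := fun d =>
    { toFun := fun s => ⟨(d : G) * s * (d : G)⁻¹, hmem d s s.2⟩
      invFun := fun s => ⟨(d : G)⁻¹ * s * (d : G), by simpa using hmem d⁻¹ s s.2⟩
      left_inv := fun s => Subtype.ext (by simp only; group)
      right_inv := fun s => Subtype.ext (by simp only; group)
      map_mul' := fun s r => Subtype.ext (by simp only [Subgroup.coe_mul]; group) }
  let ρ : D →* (Additive E ≃ₗ[ZMod 2] Additive E) :=
    { toFun := fun d => (MulEquiv.toAdditive (cE d)).toLinearEquiv fun c v =>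
        ZMod.map_smul (MulEquiv.toAdditive (cE d)).toAddMonoidHom c v
      map_one' := LinearEquiv.ext fun v => congrArg Additive.ofMul (Subtype.ext (by
        show ((1 : D) : G) * _ * ((1 : D) : G)⁻¹ = _
        simp; rfl))
      map_mul' := fun d d' => LinearEquiv.ext fun v => congrArg Additive.ofMul (Subtype.ext (by
        show ((d * d' : D) : G) * _ * ((d * d' : D) : G)⁻¹ = (d : G) * ((d' : G) * _ * (d' : G)⁻¹) *
          (d : G)⁻¹
        rw [Subgroup.coe_mul]; group)) }
  have hρv : ∀ (d : D) (v : E), ((Additive.toMul (ρ d (Additive.ofMul v)) : E) : G) =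
      (d : G) * v * (d : G)⁻¹ := fun d v => rfl
  have hinj : Function.Injective ρ := by
    rw [injective_iff_map_eq_one]
    intro d hd
    refine Subtype.ext (hW0 _ d.2 fun s hs => ?_)
    have h := congrArg (fun f : Additive E ≃ₗ[ZMod 2] Additive E =>
      ((Additive.toMul (f (Additive.ofMul ⟨s, Or.inr hs⟩)) : E) : G)) hd
    simp only [hρv] at h
    exact mul_inv_eq_iff_eq_mul.1 h
  have hne : ∀ v : Additive E, v ≠ 0 → ((Additive.toMul v : E) : G) ∈ invAt G a := fun v hv =>
    (Additive.toMul v).2.resolve_left fun h => hv (Subtype.ext h)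
  have htrans : ∀ v w : Additive E, v ≠ 0 → w ≠ 0 → ∃ d : D, ρ d v = w := by
    intro v w hv hw
    obtain ⟨d, hd, e⟩ := hG.pairStab_conj_invAt hba.symm (hne v hv) (hne w hw)
    exact ⟨⟨d, hd⟩, Subtype.ext e⟩
  have hsol : Group.IsSolvable D :=
    OddOrder.FeitThompson.isSolvable_of_odd_card (hG.odd_pairStab hba.symm)
  have hcardV : Nat.card (Additive E) = Nat.card (invAt G a) + 1 := by
    have h1 : (1 : G) ∉ invAt G a := fun h => by simpa using h.1
    have h : (E : Set G) = insert 1 (invAt G a) := Set.ext fun s => Iff.rfl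
    show Nat.card E = _
    rw [← SetLike.coe_sort_coe, h, Nat.card_coe_set_eq, Set.ncard_insert_of_notMem h1,
      ← Nat.card_coe_set_eq]
  rcases Cfsg.Agent.S3360.result 2 hsol ρ hinj htrans with ⟨F, hF1, hF2, e, he⟩ | hex
  swap
  · exfalso
    have heven : 2 ∣ Nat.card (Additive E) := by
      have h2 : orderOf (⟨t, htE⟩ : E) = 2 := by
        rw [← Subgroup.orderOf_coe]; exact ht.1
      exact h2 ▸ orderOf_dvd_natCard _
    simp only [Set.mem_insert_iff, Set.mem_singleton_iff] at hex
    omega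
  letI := hF1
  letI := hF2
  -- normalise the coordinate at `t`
  set t₀ : Additive E := Additive.ofMul ⟨t, htE⟩ with ht₀
  have ht₀0 : t₀ ≠ 0 := fun h => invol_ne_one ht.1 (congrArg Subtype.val h)
  set c := e t₀ with hc
  have hc0 : c ≠ 0 := fun h => ht₀0 (e.map_eq_zero_iff.1 h)
  set e' : Additive E → F := fun v => c⁻¹ * e v with he'
  have he'inj : Function.Injective e' := fun v w h =>
    e.injective (mul_left_cancel₀ (inv_ne_zero hc0) h)
  have he't : e' t₀ = 1 := inv_mul_cancel₀ hc0
  choose A₀ σ hσ using he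
  set A : D → F := fun d => e' (ρ d t₀) with hA
  have hA0 : ∀ d, A d ≠ 0 := fun d h => ht₀0 ((ρ d).map_eq_zero_iff.1
    (he'inj (h.trans (show (0 : F) = e' 0 by simp [he']))))
  have hact : ∀ (d : D) (v : Additive E), e' (ρ d v) = A d * σ d (e' v) := by
    intro d v
    have h1 : σ d (e v) = σ d c * σ d (e' v) := by
      rw [← map_mul, he', ← mul_assoc, mul_inv_cancel₀ hc0, one_mul]
    calc e' (ρ d v) = c⁻¹ * (A₀ d * σ d (e v)) := by rw [← hσ d v]
      _ = c⁻¹ * (A₀ d * σ d c) * σ d (e' v) := by rw [h1]; ring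
      _ = A d * σ d (e' v) := by rw [hA]; simp only [he', hσ d t₀, ← hc]
  have hsurj : ∀ z : F, ∃ v, e' v = z := fun z => by
    obtain ⟨v, hv⟩ := e.surjective (c * z)
    exact ⟨v, by rw [he']; simp only; rw [hv, ← mul_assoc, inv_mul_cancel₀ hc0, one_mul]⟩
  have hA1 : A 1 = 1 := by rw [hA]; simp only [map_one, LinearEquiv.coe_one, id_eq, he't]
  let π : D →* RingAut F :=
    { toFun := fun d => σ d
      map_one' := RingEquiv.ext fun z => by
        obtain ⟨v, rfl⟩ := hsurj z
        have h := hact 1 v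
        rw [hA1, one_mul, map_one] at h
        exact h.symm
      map_mul' := fun d d' => RingEquiv.ext fun z => by
        obtain ⟨v, rfl⟩ := hsurj z
        have h1 := hact (d * d') v
        have h2 : A (d * d') = A d * σ d (A d') := by
          rw [hA]; simp only [map_mul, LinearEquiv.mul_apply]; exact hact d _
        rw [h2, map_mul ρ, LinearEquiv.mul_apply, hact d, hact d' v, map_mul, ← mul_assoc] at h1
        exact (mul_left_cancel₀ (mul_ne_zero (hA0 d) (fun h => hA0 d' ((σ d).map_eq_zero_iff.1 h)))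
          h1).symm }
  have hπ : ∀ d, π d = σ d := fun d => rfl
  -- an element centralising `t` is determined by its automorphism
  have hY : ∀ d : D, (d : G) * t = t * d → A d = 1 := by
    intro d hd
    rw [← he't, hA]
    simp only
    congr 1
    exact congrArg Additive.ofMul (Subtype.ext (by rw [hρv]; exact mul_inv_eq_iff_eq_mul.2 hd) :
      Additive.toMul (ρ d t₀) = (⟨t, htE⟩ : E))
  have hYinj : ∀ d : D, (d : G) * t = t * d → π d = 1 → d = 1 := by
    intro d hd h
    refine hinj (LinearEquiv.ext fun v => he'inj ?_)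
    rw [hact, hY d hd, ← hπ, h, one_mul, map_one]
    rfl
  -- the subgroup `X`
  let X' : Subgroup D := X.subgroupOf D
  have hXc : ∀ x : X', ((x : D) : G) * t = t * ((x : D) : G) := fun x => hXt _ x.2
  let θ : X' →* RingAut F := π.comp X'.subtype
  have hθ : Function.Injective θ := (injective_iff_map_eq_one θ).2 fun x hx =>
    Subtype.ext (hYinj _ (hXc x) hx)
  have hXcard : Nat.card X' = Nat.card X := Nat.card_congr (Subgroup.subgroupOfEquivOfLe hXD).toEquiv
  have hcardF : Nat.card F = Nat.card (invAt G a) + 1 := (Nat.card_congr e.toEquiv).symm.trans hcardV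
  haveI : Finite (RingAut F) := Finite.of_injective (fun f => (f : F → F)) DFunLike.coe_injective
  letI := Fintype.ofFinite θ.range
  have hfix : ∀ z : F, (∀ g : θ.range, g • z = z) → z = 0 ∨ z = 1 := by
    intro z hz
    obtain ⟨v, rfl⟩ := hsurj z
    by_cases hv : v = 0
    · left; rw [hv, he']; simp
    refine Or.inr (he't ▸ congrArg e' ?_)
    have hs := hne v hv
    refine Subtype.ext (hXu _ hs fun x hx => ?_)
    set d : D := ⟨x, hXD hx⟩
    have h1 : σ d (e' v) = e' v := hz ⟨θ ⟨d, hx⟩, ⟨⟨d, hx⟩, rfl⟩⟩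
    have h2 : ρ d v = v := he'inj (by rw [hact, hY d (hXt x hx), one_mul, h1])
    exact mul_inv_eq_iff_eq_mul.1 (congrArg (fun w : Additive E => ((Additive.toMul w : E) : G)) h2)
  have hjX : Nat.card (invAt G a) + 1 = 2 ^ Nat.card X := by
    set S := FixedPoints.subfield θ.range F with hSdef
    have hS : Nat.card S = 2 := by
      rw [Nat.card_eq_two_iff' (0 : S)]
      refine ⟨1, one_ne_zero, fun z hz => ?_⟩
      rcases hfix (z : F) fun g => z.2 g with h | h
      · exact absurd (Subtype.ext h) hz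
      · exact Subtype.ext h
    haveI : FaithfulSMul θ.range F :=
      ⟨fun {g g'} h => Subtype.ext (RingEquiv.ext h)⟩
    have h := Module.natCard_eq_pow_finrank (K := S) (V := F)
    rw [hS, FixedPoints.finrank_eq_card, hcardF, ← Nat.card_eq_fintype_card,
      ← Nat.card_congr (MonoidHom.ofInjective hθ).toEquiv, hXcard] at h
    exact h
  -- the image of `D` is that of `X`
  have hrange : ∀ d : D, π d ∈ θ.range := by
    letI := Fintype.ofFinite π.range
    haveI : FaithfulSMul π.range F :=
      ⟨fun {g g'} h => Subtype.ext (RingEquiv.ext h)⟩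
    set S := FixedPoints.subfield π.range F with hSdef
    have h := Module.natCard_eq_pow_finrank (K := S) (V := F)
    rw [FixedPoints.finrank_eq_card, hcardF, hjX, ← Nat.card_eq_fintype_card] at h
    have h2 : 2 ≤ Nat.card S := Finite.one_lt_card
    have hle : Nat.card π.range ≤ Nat.card θ.range := by
      rw [← Nat.card_congr (MonoidHom.ofInjective hθ).toEquiv, hXcard,
        ← Nat.pow_le_pow_iff_right (show 1 < 2 by norm_num), h]
      exact Nat.pow_le_pow_left h2 _
    have heq : θ.range = π.range :=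
      Subgroup.eq_of_le_of_card_ge (by rintro _ ⟨x, rfl⟩; exact ⟨_, rfl⟩) hle
    exact fun d => heq.ge ⟨d, rfl⟩
  refine ⟨hjX, fun d hd hdt => ?_, ?_, π.ker.map D.subtype, Subgroup.map_subtype_le _, ?_, ?_, ?_, ?_⟩
  · obtain ⟨x, hx⟩ := hrange ⟨d, hd⟩
    have hc : ((⟨d, hd⟩ * (x : D)⁻¹ : D) : G) * t = t * ((⟨d, hd⟩ * (x : D)⁻¹ : D) : G) := by
      show Commute (d * ((x : D) : G)⁻¹) t
      exact (show Commute d t from hdt).mul_left (show Commute ((x : D) : G) t from hXc x).inv_left
    have h1 := hYinj _ hc (by rw [map_mul, map_inv, ← hx]; exact mul_inv_cancel _)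
    rw [mul_inv_eq_one] at h1
    rw [show d = ((x : D) : G) from congrArg Subtype.val h1]
    exact x.2
  · haveI : CharP F 2 := by
      refine (CharP.charP_iff_prime_eq_zero Nat.prime_two).2 ?_
      have h := congrArg e (htwo t₀)
      rw [map_nsmul, map_zero, ← hc, nsmul_eq_mul] at h
      exact (mul_eq_zero.1 h).resolve_right hc0
    obtain ⟨g, k, -, -, hg⟩ :=
      ExtPrim.EndField.exists_cyclic_gen F 2 (Nat.card X) (hcardF.trans hjX) θ
    haveI : IsCyclic X' := ⟨⟨g, fun x => by
      obtain ⟨i, hi⟩ := hg x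
      exact ⟨i, (mul_inv_eq_one.1 (hθ (hi.trans (map_one θ).symm))).symm⟩⟩⟩
    exact (Subgroup.subgroupOfEquivOfLe hXD).isCyclic.1 inferInstance
  · rintro d hd _ ⟨k, hk, rfl⟩
    exact ⟨⟨d, hd⟩ * k * ⟨d, hd⟩⁻¹, (inferInstance : π.ker.Normal).conj_mem k hk _, rfl⟩
  · rintro _ ⟨k, hk, rfl⟩ _ ⟨k', hk', rfl⟩
    suffices h : k * k' = k' * k from congrArg Subtype.val h
    refine hinj (LinearEquiv.ext fun v => he'inj ?_)
    simp only [map_mul, LinearEquiv.mul_apply, hact, ← hπ, MonoidHom.mem_ker.1 hk,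
      MonoidHom.mem_ker.1 hk']
    show A k * (A k' * e' v) = A k' * (A k * e' v)
    ring
  · rintro _ ⟨k, hk, rfl⟩ hkt
    rw [hYinj k hkt (MonoidHom.mem_ker.1 hk)]
    rfl
  · intro d hd
    obtain ⟨x, hx⟩ := hrange ⟨d, hd⟩
    refine ⟨d * ((x : D) : G)⁻¹, ⟨⟨d, hd⟩ * (x : D)⁻¹, MonoidHom.mem_ker.2 ?_, rfl⟩, (x : D), x.2,
      by group⟩
    rw [map_mul, map_inv, ← hx]
    exact mul_inv_cancel _

end Cfsg.Agent.Lib.BenderOne67.C2.Field
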