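import Mathlib
import Cfsg.Agent.Lib.BenderOne67.C2.Field
import Cfsg.Agent.Lib.BenderOne8.Single.Interface
import Cfsg.Agent.Lib.BenderOne8.TwoTrans

/-!
# Node C2, commuting involutions: a single subgroup at a pair of points
-/

set_option autoImplicit false
set_option linter.style.haveILetI false
set_option linter.unusedSectionVars false

namespace Cfsg.Agent.Lib.BenderOne67.C2.SinglePair

open MulAction Cfsg.Agent.Lib.Involutions.Basic
open Cfsg.Agent.Lib.BenderOne20 Cfsg.Agent.Lib.BenderOne8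
open Cfsg.Agent.Lib.BenderOne8.Single (Ctx IsSingle Comm W0One)

universe u

variable {G Ω : Type u} [Group G] [MulAction G Ω] [Finite G]

theorem one_lt (h : Ctx G Ω) (a : Ω) : 1 < Nat.card (invAt G a) := by
  obtain ⟨s, hs, t, ht, hne, -⟩ := h.four a
  exact Finite.one_lt_card_iff_nontrivial.2
    ⟨⟨s, hs⟩, ⟨t, ht⟩, fun e => hne (congrArg Subtype.val e)⟩

/-- The two hypotheses move to any pair of points. -/
theorem transfer (h : Ctx G Ω) {a b a' b' : Ω} (hba : b ≠ a) (hba' : b' ≠ a')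
    (hW : W0One G a b) (hcomm : Comm G a) : W0One G a' b' ∧ Comm G a' := by
  haveI := h.fix.trans
  obtain ⟨g₁, hg₁⟩ := exists_smul_eq G a a'
  have hb₁ : g₁ • b ≠ a' := fun e => hba (MulAction.injective g₁ (e.trans hg₁.symm))
  obtain ⟨g₂, hg₂a, hg₂b⟩ := two_transitive h.fix h.propF (a₀ := a') (one_lt h a') hb₁ hba'
  set g := g₂ * g₁
  have hga : g • a = a' := by rw [mul_smul, hg₁, hg₂a]
  have hgb : g • b = b' := by rw [mul_smul, hg₂b]
  have hdown : ∀ {s : G}, s ∈ invAt G a' → g⁻¹ * s * g ∈ invAt G a := fun {s} hs => by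
    have := OneFix.conj_mem_invAt (g := g⁻¹) hs
    rwa [inv_inv, inv_smul_eq_iff.2 hga.symm] at this
  have hup : ∀ {s : G}, s ∈ invAt G a → g * s * g⁻¹ ∈ invAt G a' := fun {s} hs => by
    have := OneFix.conj_mem_invAt (g := g) hs
    rwa [hga] at this
  refine ⟨fun d hd hdJ => ?_, fun s hs r hr => ?_⟩
  · have hd' : g⁻¹ * d * g ∈ pairStab G a b := by
      refine ⟨?_, ?_⟩
      · show (g⁻¹ * d * g) • a = a
        rw [mul_smul, mul_smul, hga, (hd.1 : d • a' = a'), inv_smul_eq_iff, hga]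
      · show (g⁻¹ * d * g) • b = b
        rw [mul_smul, mul_smul, hgb, (hd.2 : d • b' = b'), inv_smul_eq_iff, hgb]
    have h1 := hW _ hd' fun s hs => by
      calc g⁻¹ * d * g * s = g⁻¹ * (d * (g * s * g⁻¹)) * g := by group
        _ = s * (g⁻¹ * d * g) := by rw [hdJ _ (hup hs)]; group
    calc d = g * (g⁻¹ * d * g) * g⁻¹ := by group
      _ = 1 := by rw [h1]; group
  · calc s * r = g * (g⁻¹ * s * g * (g⁻¹ * r * g)) * g⁻¹ := by group
      _ = r * s := by rw [hcomm _ (hdown hs) _ (hdown hr)]; group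

/-- The semilinear facts at a single subgroup of prime power order. -/
structure Data (a b : Ω) (p e : ℕ) (t : G) (X K : Subgroup G) : Prop where
  le : X ≤ pairStab G a b
  ht : t ∈ invAt G a
  comm : ∀ x ∈ X, x * t = t * x
  uniq : ∀ s ∈ invAt G a, (∀ x ∈ X, x * s = s * x) → s = t
  prime : p.Prime
  pos : 1 ≤ e
  card : Nat.card X = p ^ e
  cardJ : Nat.card (invAt G a) + 1 = 2 ^ Nat.card X
  cen : ∀ d ∈ pairStab G a b, d * t = t * d → d ∈ X
  cyclic : IsCyclic X
  ndvd : ¬ p ∣ Nat.card (invAt G a)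
  leK : K ≤ pairStab G a b
  normK : ∀ d ∈ pairStab G a b, ∀ k ∈ K, d * k * d⁻¹ ∈ K
  commK : ∀ k ∈ K, ∀ k' ∈ K, k * k' = k' * k
  free : ∀ k ∈ K, k * t = t * k → k = 1
  gen : ∀ d ∈ pairStab G a b, ∃ k ∈ K, ∃ x ∈ X, d = k * x

theorem exists_data (h : Ctx G Ω) {a b : Ω} (hba : b ≠ a) (hW : W0One G a b) (hcomm : Comm G a)
    {p : ℕ} (hp : p.Prime) {X : Subgroup G} (hX : IsPGroup p X) (hXD : X ≤ pairStab G a b)
    (hone : Nat.card (invCen X a) = 1) : ∃ (e : ℕ) (t : G) (K : Subgroup G), Data a b p e t X K := by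
  haveI := Fact.mk hp
  obtain ⟨hsub, ⟨⟨t, ht⟩⟩⟩ := Nat.card_eq_one_iff_unique.1 hone
  have hXt : ∀ x ∈ X, x * t = t * x := fun x hx =>
    Subgroup.mem_centralizer_singleton_iff.1 (ht.2 hx)
  have huniq : ∀ s ∈ invAt G a, (∀ x ∈ X, x * s = s * x) → s = t := fun s hs hc =>
    congrArg Subtype.val (Subsingleton.elim
      (⟨s, hs, fun x hx => Subgroup.mem_centralizer_singleton_iff.2 (hc x hx)⟩ : invCen X a)
      ⟨t, ht⟩)
  obtain ⟨hcardJ, hcen, hcyc, K, hK, hKn, hKc, hKf, hKg⟩ :=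
    Field.facts h.fix hba hcomm hW ht.1 hXD hXt huniq
  obtain ⟨e, he⟩ := IsPGroup.iff_card.1 hX
  have he1 : 1 ≤ e := by
    by_contra h0
    have := one_lt h a
    rw [he, show e = 0 by omega] at hcardJ
    simp only [pow_zero, pow_one] at hcardJ
    omega
  refine ⟨e, t, K, hXD, ht.1, hXt, huniq, hp, he1, he, hcardJ, hcen, hcyc, fun hdvd => ?_, hK, hKn,
    hKc, hKf, hKg⟩
  have h1 := card_invCen_modEq hX (show a ∈ Fx X from hXD.trans inf_le_left)
  rw [hone] at h1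
  have h2 : 0 ≡ 1 [MOD p] := (Nat.modEq_zero_iff_dvd.2 hdvd).symm.trans h1
  exact hp.one_lt.ne' (Nat.dvd_one.1 (Nat.modEq_zero_iff_dvd.1 h2.symm))

theorem Data.card_pairStab (h : Ctx G Ω) {a b : Ω} (hba : b ≠ a) {p e : ℕ} {t : G}
    {X K : Subgroup G} (d : Data a b p e t X K) :
    Nat.card (pairStab G a b) = Nat.card (invAt G a) * Nat.card X := by
  rw [h.fix.card_pairStab_invAt hba.symm d.ht]
  congr 1
  refine congrArg (fun S : Subgroup G => Nat.card S) ?_
  exact le_antisymm (fun g hg => d.cen g hg.1 (Subgroup.mem_centralizer_singleton_iff.1 hg.2))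
    fun g hg => ⟨d.le hg, Subgroup.mem_centralizer_singleton_iff.2 (d.comm g hg)⟩

/-- Elements of the pair stabiliser normalising `X` lie in it. -/
theorem Data.mem_of_normalizer {a b : Ω} {p e : ℕ} {t : G} {X K : Subgroup G}
    (d : Data a b p e t X K) {g : G} (hg : g ∈ pairStab G a b)
    (hn : g ∈ Subgroup.normalizer (X : Set G)) : g ∈ X := by
  refine d.cen g hg (mul_inv_eq_iff_eq_mul.1 (d.uniq _ ?_ fun x hx => ?_))
  · have := OneFix.conj_mem_invAt (g := g) d.ht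
    rwa [(hg.1 : g • a = a)] at this
  · have h1 := d.comm _ ((Subgroup.mem_normalizer_iff''.1 hn x).1 hx)
    calc x * (g * t * g⁻¹) = g * (g⁻¹ * x * g * t) * g⁻¹ := by group
      _ = g * t * g⁻¹ * x := by rw [h1]; group

end Cfsg.Agent.Lib.BenderOne67.C2.SinglePair
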