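import Mathlib
import Cfsg.Agent.Lib.BenderOne67.C2.SinglePair
import Cfsg.Agent.Lib.BenderOne67.C2.Regular
import Cfsg.Agent.Lib.BenderOne83.C2.Inverted

/-!
# Node C2, commuting involutions: a single subgroup of prime order
-/

set_option autoImplicit false
set_option linter.style.haveILetI false
set_option linter.unusedSectionVars false

namespace Cfsg.Agent.Lib.BenderOne67.C2.SinglePair

open MulAction Cfsg.Agent.Lib.Involutions.Basic
open Cfsg.Agent.Lib.BenderOne20 Cfsg.Agent.Lib.BenderOne8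
open Cfsg.Agent.Lib.BenderOne8.Single (Ctx IsSingle Comm W0One Reg)

universe u

variable {G Ω : Type u} [Group G] [MulAction G Ω] [Finite G]

theorem conj_mem_swapSet {a b : Ω} {g w : G} (hg : g ∈ pairStab G a b) (hw : w ∈ swapSet G a b) :
    g * w * g⁻¹ ∈ swapSet G a b :=
  ⟨(orderOf_conj_eq g w).trans hw.1, by
    rw [mul_smul, mul_smul, inv_smul_eq_iff.2 (hg.1 : g • a = a).symm, hw.2]; exact hg.2⟩

/-- A single subgroup of prime order gives the configuration of the endgame. -/
theorem exists_hyp (h : Ctx G Ω) {a b : Ω} (hba : b ≠ a) (hcomm : Comm G a) {p e : ℕ} {t : G}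
    {X K : Subgroup G} (d : Data a b p e t X K) (hq : (Nat.card X).Prime) :
    ∃ u y : G, Hyp G a b t u y K (Nat.card X) := by
  classical
  set q := Nat.card X with hqdef
  haveI := Fact.mk hq
  haveI := Fact.mk d.prime
  have hqp : q = p := ((Nat.prime_dvd_prime_iff_eq d.prime hq).1
    ((dvd_pow_self p (by have := d.pos; omega : e ≠ 0)).trans (dvd_of_eq d.card.symm))).symm
  obtain ⟨y, hy, hy1⟩ : ∃ y ∈ X, y ≠ 1 := by
    haveI := Finite.one_lt_card_iff_nontrivial.1 hq.one_lt
    obtain ⟨z, hz⟩ := exists_ne (1 : X)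
    exact ⟨z, z.2, fun e => hz (Subtype.ext e)⟩
  have hord : orderOf y = q :=
    (hq.eq_one_or_self_of_dvd _ (Subgroup.orderOf_dvd_natCard _ hy)).resolve_left
      fun e => hy1 (orderOf_eq_one_iff.1 e)
  have hXy : X = Subgroup.zpowers y :=
    (Subgroup.eq_of_le_of_card_ge (Subgroup.zpowers_le.2 hy)
      (by rw [Nat.card_zpowers, hord])).symm
  have hpow : ∀ x ∈ X, ∃ i : ℕ, x = y ^ i := fun x hx => by
    rw [hXy] at hx
    obtain ⟨i, -, hi⟩ := Finset.mem_image.1
      ((isOfFinOrder_of_finite y).mem_zpowers_iff_mem_range_orderOf.1 hx)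
    exact ⟨i, hi.symm⟩
  -- a swapper centralised by `X`
  letI : MulAction X ↥(swapSet G a b) :=
    { smul := fun x w => ⟨(x : G) * w.1 * (x : G)⁻¹, conj_mem_swapSet (d.le x.2) w.2⟩
      one_smul := fun w => Subtype.ext (by show (1 : G) * w.1 * 1⁻¹ = w.1; group)
      mul_smul := fun x x' w => Subtype.ext (by
        show ((x : G) * x') * w.1 * ((x : G) * x')⁻¹ = (x : G) * ((x' : G) * w.1 * (x' : G)⁻¹) * (x : G)⁻¹
        group) }
  obtain ⟨⟨u, hu⟩, hfix⟩ := (IsPGroup.of_card (p := p) (n := e) d.card).nonempty_fixed_point_of_prime_not_dvd_card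
    ↥(swapSet G a b) (by rw [h.fix.card_swapSet hba.symm, h.fix.card_invAt b a]; exact d.ndvd)
  have hyu : y * u = u * y :=
    mul_inv_eq_iff_eq_mul.1 (congrArg Subtype.val (hfix ⟨y, hy⟩))
  have hXu : ∀ x ∈ X, x * u = u * x := fun x hx =>
    mul_inv_eq_iff_eq_mul.1 (congrArg Subtype.val (hfix ⟨x, hx⟩))
  have hm0 : 0 < Nat.card (invAt G a) := lt_trans Nat.one_pos (one_lt h a)
  have hD := d.card_pairStab h hba
  have hCu : ∀ g ∈ pairStab G a b, g * u = u * g → g ∈ X := by
    have e1 := h.fix.card_pairStab_swap hba.symm hu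
    rw [hD] at e1
    have e2 : X = pairStab G a b ⊓ Subgroup.centralizer {u} :=
      Subgroup.eq_of_le_of_card_ge
        (fun x hx => ⟨d.le hx, Subgroup.mem_centralizer_singleton_iff.2 (hXu x hx)⟩)
        (Nat.eq_of_mul_eq_mul_left hm0 e1).ge
    intro g hg hgu
    rw [e2]
    exact ⟨hg, Subgroup.mem_centralizer_singleton_iff.2 hgu⟩
  have htrans : ∀ s ∈ invAt G a, ∃ k ∈ K, k * t * k⁻¹ = s := by
    intro s hs
    obtain ⟨g, hg, rfl⟩ := h.fix.pairStab_conj_invAt hba.symm d.ht hs
    obtain ⟨k, hk, x, hx, rfl⟩ := d.gen g hg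
    refine ⟨k, hk, ?_⟩
    calc k * t * k⁻¹ = k * (x * t * x⁻¹) * k⁻¹ := by
          rw [mul_inv_eq_iff_eq_mul.2 (d.comm x hx)]
      _ = k * x * t * (k * x)⁻¹ := by group
  have hcardK : Nat.card K = Nat.card (invAt G a) := by
    have hconj : ∀ k ∈ K, k * t * k⁻¹ ∈ invAt G a := fun k hk => by
      have := OneFix.conj_mem_invAt (g := k) d.ht
      rwa [((d.leK hk).1 : k • a = a)] at this
    refine Nat.card_eq_of_bijective (fun k : K => (⟨_, hconj k k.2⟩ : invAt G a))
      ⟨fun k k' hkk => ?_, fun s => ?_⟩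
    · have h' : (k : G) * t * (k : G)⁻¹ = k' * t * (k' : G)⁻¹ := congrArg Subtype.val hkk
      refine Subtype.ext (inv_mul_eq_one.1 (d.free _ (mul_mem (inv_mem k'.2) k.2) ?_)).symm
      calc (k' : G)⁻¹ * k * t = (k' : G)⁻¹ * (k * t * (k : G)⁻¹) * k := by group
        _ = t * ((k' : G)⁻¹ * k) := by rw [h']; group
    · obtain ⟨k, hk, hks⟩ := htrans s s.2
      exact ⟨⟨k, hk⟩, Subtype.ext hks⟩
  have hcop : (Nat.card K).Coprime q := by
    rw [hcardK, Nat.coprime_comm, hqp]
    exact d.prime.coprime_iff_not_dvd.2 d.ndvd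
  -- `u` normalises `K`
  have huK : ∀ k ∈ K, u * k * u⁻¹ ∈ K := by
    intro k hk
    have hg : u * k * u⁻¹ ∈ pairStab G a b := by
      refine ⟨?_, ?_⟩
      · show (u * k * u⁻¹) • a = a
        rw [invol_inv hu.1, mul_smul, mul_smul, hu.2, ((d.leK hk).2 : k • b = b), smul_swap hu]
      · show (u * k * u⁻¹) • b = b
        rw [invol_inv hu.1, mul_smul, mul_smul, smul_swap hu, ((d.leK hk).1 : k • a = a), hu.2]
    obtain ⟨k', hk', x, hx, hkx⟩ := d.gen _ hg
    suffices hx1 : x = 1 by rw [hkx, hx1, mul_one]; exact hk'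
    have hpowK : ∀ n : ℕ, ∃ l ∈ K, (k' * x) ^ n = l * x ^ n := by
      intro n
      induction n with
      | zero => exact ⟨1, one_mem _, by simp⟩
      | succ n ih =>
        obtain ⟨l, hl, e⟩ := ih
        exact ⟨l * (x ^ n * k' * (x ^ n)⁻¹),
          mul_mem hl (d.normK _ (pow_mem (d.le hx) n) _ hk'),
          by rw [pow_succ, e, pow_succ]; group⟩
    obtain ⟨l, hl, e⟩ := hpowK (Nat.card K)
    rw [← hkx, conj_pow, orderOf_dvd_iff_pow_eq_one.1 (Subgroup.orderOf_dvd_natCard _ hk),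
      mul_one, mul_inv_cancel] at e
    have hxm : x ^ Nat.card K ∈ K := by
      rw [eq_inv_of_mul_eq_one_right e.symm]
      exact inv_mem hl
    have hxm1 := d.free _ hxm ((show Commute x t from d.comm x hx).pow_left _).eq
    exact orderOf_eq_one_iff.1 (Nat.eq_one_of_dvd_coprimes hcop
      (orderOf_dvd_of_pow_eq_one hxm1) (Subgroup.orderOf_dvd_natCard _ hx))
  have huN : u ∈ Subgroup.normalizer (K : Set G) := by
    rw [Subgroup.mem_normalizer_iff_map_conj_eq]
    refine Subgroup.eq_of_le_of_card_ge ?_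
      (Subgroup.card_map_of_injective (MulAut.conj u).injective).ge
    rintro _ ⟨k, hk, rfl⟩
    exact huK k hk
  have hinv : ∀ k ∈ K, u * k * u⁻¹ = k⁻¹ := fun k hk =>
    BenderOne83.Inverted.all_inverted
      ((h.fix.odd_pairStab hba.symm).of_dvd_nat (Subgroup.card_dvd_of_le d.leK)) hu.1 huN
      (fun c hc hcu => d.free c hc (d.comm c (hCu c (d.leK hc) hcu.symm))) hk
  refine ⟨u, y,
    { fix := h.fix
      propF := h.propF
      ne := hba
      two := fun x z hx hz => two_transitive h.fix h.propF (a₀ := a) (one_lt h a) hx hz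
      comm := hcomm
      ht := d.ht
      hu := hu
      prime := hq
      le := d.leK
      commK := d.commK
      inv := hinv
      hy := d.le hy
      ordy := hord
      yt := d.comm y hy
      yu := hyu
      norm := fun k hk => d.normK y (d.le hy) k hk
      fpf := fun k hk hyk => ?_
      gen := fun g hg => by
        obtain ⟨k, hk, x, hx, rfl⟩ := d.gen g hg
        obtain ⟨i, rfl⟩ := hpow x hx
        exact ⟨k, hk, i, rfl⟩
      trans := htrans
      free := d.free
      card := by have := d.cardJ; rw [← hqdef] at this; omega }⟩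
  have hs : k * t * k⁻¹ ∈ invAt G a := by
    have := OneFix.conj_mem_invAt (g := k) d.ht
    rwa [((d.leK hk).1 : k • a = a)] at this
  refine d.free k hk (mul_inv_eq_iff_eq_mul.1 (d.uniq _ hs fun x hx => ?_))
  obtain ⟨i, rfl⟩ := hpow x hx
  have hc : Commute (y ^ i) k := (show Commute y k from hyk).pow_left i
  exact ((hc.mul_right (d.comm _ (pow_mem hy i))).mul_right hc.inv_right).eq

theorem reg_of_prime (h : Ctx G Ω) {a b : Ω} (hba : b ≠ a) (hcomm : Comm G a) {p e : ℕ} {t : G}
    {X K : Subgroup G} (d : Data a b p e t X K) (hq : (Nat.card X).Prime) : Reg G a := by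
  haveI := Fintype.ofFinite G
  obtain ⟨u, y, P⟩ := exists_hyp h hba hcomm d hq
  exact P.exists_regular

end Cfsg.Agent.Lib.BenderOne67.C2.SinglePair
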