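import Mathlib
import Cfsg.Agent.Lib.BenderOne67.C2.SinglePair
import Cfsg.Agent.Lib.BenderOne8.SplitCard

/-!
# Node C2, commuting involutions: a single subgroup whose order is not prime

It contains a good subgroup of order `p`, so the points it fixes other than `a` number a power of
two and are permuted transitively by its centraliser.
-/

set_option autoImplicit false
set_option linter.style.haveILetI false
set_option linter.unusedSectionVars false

namespace Cfsg.Agent.Lib.BenderOne67.C2.SinglePair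

open MulAction Cfsg.Agent.Lib.Involutions.Basic
open Cfsg.Agent.Lib.BenderOne20 Cfsg.Agent.Lib.BenderOne8
open Cfsg.Agent.Lib.BenderOne8.Single (Ctx IsSingle Comm W0One)

universe u

variable {G Ω : Type u} [Group G] [MulAction G Ω] [Finite G]

/-- A `p'`-element normalising a cyclic `p`-group and centralising a non-trivial element of it
centralises all of it. -/
theorem commute_of_cyclic {p e : ℕ} (hp : p.Prime) {X : Subgroup G} (hcard : Nat.card X = p ^ e)
    (hcyc : IsCyclic X) {h : G} (hn : h ∈ Subgroup.normalizer (X : Set G))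
    (hcop : (orderOf h).Coprime p) {z : G} (hz : z ∈ X) (hz1 : z ≠ 1) (hhz : h * z = z * h) :
    ∀ x ∈ X, h * x = x * h := by
  haveI := Fact.mk hp
  obtain ⟨g, hg⟩ := hcyc.exists_generator
  have hord : orderOf (g : G) = p ^ e := by
    rw [Subgroup.orderOf_coe, orderOf_eq_card_of_forall_mem_zpowers hg, hcard]
  have hgen : ∀ x ∈ X, ∃ i : ℕ, x = (g : G) ^ i := fun x hx => by
    obtain ⟨i, hi⟩ := Submonoid.mem_powers_iff _ _ |>.1
      ((mem_powers_iff_mem_zpowers).2 (hg ⟨x, hx⟩))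
    exact ⟨i, by rw [← SubmonoidClass.coe_pow, hi]⟩
  obtain ⟨c, hc⟩ := hgen _ ((Subgroup.mem_normalizer_iff.1 hn g).1 g.2)
  obtain ⟨i, hi⟩ := hgen z hz
  have hpi : ¬ p ^ e ∣ i := fun hd => hz1 (by
    rw [hi]; exact orderOf_dvd_iff_pow_eq_one.1 (hord ▸ hd))
  have h1 : (g : G) ^ (c * i) = (g : G) ^ i := by
    rw [pow_mul, ← hc, conj_pow, ← hi, mul_inv_eq_iff_eq_mul.2 hhz]
  rw [pow_eq_pow_iff_modEq, hord] at h1
  have h2 : ((p ^ e : ℕ) : ℤ) ∣ ((c : ℤ) - 1) * i := by
    have := Nat.modEq_iff_dvd.1 h1.symm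
    push_cast at this ⊢
    rw [sub_mul, one_mul]
    exact this
  have hc1 : (p : ℤ) ∣ (c : ℤ) - 1 := by
    by_contra hnd
    have hcop : IsCoprime ((p ^ e : ℕ) : ℤ) ((c : ℤ) - 1) := by
      push_cast
      exact ((Nat.prime_iff_prime_int.1 hp).coprime_iff_not_dvd.2 hnd).pow_left
    exact hpi (Int.natCast_dvd_natCast.1 (hcop.dvd_of_dvd_mul_left h2))
  have hcong : c ^ p ^ e ≡ 1 [MOD p ^ e] := by
    refine (Nat.modEq_iff_dvd.2 ?_).symm
    have := dvd_sub_pow_of_dvd_sub (R := ℤ) (a := (c : ℤ)) (b := 1) hc1 e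
    rw [one_pow] at this
    push_cast
    exact (pow_dvd_pow (p : ℤ) (Nat.le_succ e)).trans this
  have hiter : ∀ n : ℕ, h ^ n * g * (h ^ n)⁻¹ = (g : G) ^ c ^ n := by
    intro n
    induction n with
    | zero => simp
    | succ n ih =>
      calc h ^ (n + 1) * g * (h ^ (n + 1))⁻¹ = h * (h ^ n * g * (h ^ n)⁻¹) * h⁻¹ := by
            rw [pow_succ']; group
        _ = (h * g * h⁻¹) ^ c ^ n := by rw [ih, conj_pow]
        _ = (g : G) ^ c ^ (n + 1) := by rw [hc, ← pow_mul, pow_succ']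
  have hN : Commute (h ^ p ^ e) (g : G) := mul_inv_eq_iff_eq_mul.1 (by
    rw [hiter]
    conv_rhs => rw [← pow_one (g : G)]
    rw [pow_eq_pow_iff_modEq, hord]
    exact hcong)
  obtain ⟨k, hk⟩ := exists_pow_eq_self_of_coprime (hcop.pow_right e).symm
  have hhg : Commute h (g : G) := by rw [← hk]; exact hN.pow_left k
  intro x hx
  obtain ⟨j, rfl⟩ := hgen x hx
  exact (hhg.pow_right j).eq

theorem good_of_pow (h : Ctx G Ω) {a b : Ω} (hba : b ≠ a) (hW : W0One G a b) (hcomm : Comm G a)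
    {p : ℕ} (hp : p.Prime) {X : Subgroup G} (hX : IsPGroup p X) (h3 : Three X Ω) (ha : a ∈ Fx X)
    (hb : b ∈ Fx X) (hone : Nat.card (invCen X a) = 1) (hnp : ¬ (Nat.card X).Prime) :
    (∀ y, y ∈ Fx X → y ≠ a → ∃ g ∈ Subgroup.centralizer (X : Set G), g • a = a ∧ g • b = y) ∧
      (Nat.card {e : Ω // e ∈ Fx X ∧ e ≠ a}).Coprime (Nat.card (pairStab G a b)) := by
  classical
  haveI := Fact.mk hp
  haveI : Finite Ω := by
    haveI := h.fix.trans
    exact Finite.of_surjective (fun g : G => g • a) fun x => exists_smul_eq G a x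
  have hXD : X ≤ pairStab G a b := le_pairStab ha hb
  obtain ⟨e, t, K, d⟩ := exists_data h hba hW hcomm hp hX hXD hone
  haveI := d.cyclic
  have hXc : ∀ x ∈ X, ∀ x' ∈ X, x * x' = x' * x := fun x hx x' hx' => by
    letI := IsCyclic.commGroup (α := X)
    exact congrArg Subtype.val (mul_comm (⟨x, hx⟩ : X) ⟨x', hx'⟩)
  -- the good subgroup
  obtain ⟨z', hz'⟩ := exists_prime_orderOf_dvd_card' (G := X) p
    ((dvd_pow_self p (by have := d.pos; omega : e ≠ 0)).trans (dvd_of_eq d.card.symm))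
  set z : G := (z' : G) with hzdef
  have hzX : z ∈ X := z'.2
  have hzo : orderOf z = p := by rw [hzdef, Subgroup.orderOf_coe, hz']
  have hz1 : z ≠ 1 := fun e => hp.ne_one (by rw [← hzo, e, orderOf_one])
  set Z := Subgroup.zpowers z with hZdef
  have hZX : Z ≤ X := Subgroup.zpowers_le.2 hzX
  have hZc : IsPGroup p Z := IsPGroup.of_card (n := 1) (by rw [Nat.card_zpowers, hzo, pow_one])
  have haZ : a ∈ Fx Z := Fx_anti hZX ha
  have hbZ : b ∈ Fx Z := Fx_anti hZX hb
  have h3Z : Three Z Ω := by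
    obtain ⟨u, v, w, h1, h2, h4, hu, hv, hw⟩ := h3
    exact ⟨u, v, w, h1, h2, h4, Fx_anti hZX hu, Fx_anti hZX hv, Fx_anti hZX hw⟩
  have hmem : t ∈ invCen Z a :=
    ⟨d.ht, fun x hx => Subgroup.mem_centralizer_singleton_iff.2 (d.comm x (hZX hx))⟩
  have hgood : 1 < Nat.card (invCen Z a) := by
    haveI : Nonempty ↥(invCen Z a) := ⟨⟨t, hmem⟩⟩
    refine lt_of_le_of_ne Nat.card_pos fun h1 => hnp ?_
    obtain ⟨e', t', K', d'⟩ := exists_data h hba hW hcomm hp hZc (hZX.trans hXD) h1.symm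
    have e1 := d'.cardJ
    rw [d.cardJ, Nat.card_zpowers, hzo] at e1
    rw [Nat.pow_right_injective le_rfl e1]
    exact hp
  have hne : Subgroup.centralizer (Z : Set G) ≠ ⊤ := fun htop => hz1 (by
    rw [← Subgroup.mem_bot, ← h.center, Subgroup.mem_center_iff]
    exact fun g => (Subgroup.mem_centralizer_iff.1 (htop.ge (Subgroup.mem_top g)) z
      (Subgroup.mem_zpowers z)).symm)
  obtain ⟨i, hi⟩ := card_Fx_eq_two_pow h.fix h.propF hZc h3Z haZ hgood h.below hne
  have hXN : ∀ x ∈ X, x ∈ Subgroup.centralizer (Z : Set G) := fun x hx =>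
    Subgroup.mem_centralizer_iff.2 fun w hw => hXc w (hZX hw) x hx
  -- `p` does not divide the number of fixed points of `X`
  have hp2 : p ≠ 2 := by
    rintro rfl
    have := (h.fix.odd_pairStab hba.symm).of_dvd_nat
      (hzo ▸ Subgroup.orderOf_dvd_natCard _ (hXD hzX))
    exact absurd this (by decide)
  have hpS : ¬ p ∣ Nat.card {c : Ω // c ∈ Fx X ∧ c ≠ a} := by
    letI : MulAction X {c : Ω // c ∈ Fx Z ∧ c ≠ a} :=
      { smul := fun x c => ⟨(x : G) • c.1,
          smul_mem_Fx (Subgroup.centralizer_le_normalizer _ (hXN x x.2)) c.2.1,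
          fun e => c.2.2 (MulAction.injective (x : G) (e.trans (ha x.2 : (x : G) • a = a).symm))⟩
        one_smul := fun c => Subtype.ext (one_smul G c.1)
        mul_smul := fun x x' c => Subtype.ext (mul_smul (x : G) (x' : G) c.1) }
    have hmod := hX.card_modEq_card_fixedPoints {c : Ω // c ∈ Fx Z ∧ c ≠ a}
    rw [hi] at hmod
    have e1 : Nat.card (fixedPoints X {c : Ω // c ∈ Fx Z ∧ c ≠ a}) =
        Nat.card {c : Ω // c ∈ Fx X ∧ c ≠ a} := Nat.card_congr
      { toFun := fun c => ⟨c.1.1, fun x hx => congrArg Subtype.val (c.2 ⟨x, hx⟩), c.1.2.2⟩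
        invFun := fun c => ⟨⟨c.1, Fx_anti hZX c.2.1, c.2.2⟩,
          fun x => Subtype.ext (c.2.1 x.2)⟩
        left_inv := fun c => rfl
        right_inv := fun c => rfl }
    rw [e1] at hmod
    intro hdvd
    have h0 : p ∣ 2 ^ i :=
      Nat.modEq_zero_iff_dvd.1 (hmod.trans (Nat.modEq_zero_iff_dvd.2 hdvd))
    exact hp2 ((Nat.prime_dvd_prime_iff_eq hp Nat.prime_two).1 (hp.dvd_of_dvd_pow h0))
  -- the group permuting them
  set N := stabilizer G a ⊓ Subgroup.centralizer (Z : Set G) ⊓ Subgroup.normalizer (X : Set G)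
    with hNdef
  have hXleN : X ≤ N := fun x hx => ⟨⟨ha hx, hXN x hx⟩, Subgroup.le_normalizer hx⟩
  have hstab : ∀ g ∈ N, g • b = b → g ∈ X := fun g hg hgb =>
    d.mem_of_normalizer ⟨hg.1.1, hgb⟩ hg.2
  set DZ := pairStab G a b ⊓ Subgroup.centralizer (Z : Set G)
  have hsyl : SylowIn p X DZ := by
    have hXDZ : X ≤ DZ := fun x hx => ⟨hXD hx, hXN x hx⟩
    refine ⟨hXDZ, ?_⟩
    obtain ⟨c, hc⟩ := Subgroup.card_dvd_of_le hXDZ
    have hdvd : Nat.card X * c ∣ Nat.card (invAt G a) * Nat.card X :=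
      hc ▸ d.card_pairStab h hba ▸ Subgroup.card_dvd_of_le (inf_le_left : DZ ≤ pairStab G a b)
    rw [mul_comm (Nat.card (invAt G a))] at hdvd
    have hcm : c ∣ Nat.card (invAt G a) := Nat.dvd_of_mul_dvd_mul_left Nat.card_pos hdvd
    have hpc : ¬ p ∣ c := fun hh => d.ndvd (hh.trans hcm)
    have hc0 : c ≠ 0 := fun hh => hpc (hh ▸ dvd_zero p)
    rw [hc, d.card, Nat.factorization_mul (pow_ne_zero _ hp.ne_zero) hc0, Finsupp.add_apply,
      Nat.factorization_eq_zero_of_not_dvd hpc, add_zero, Nat.factorization_pow, Finsupp.smul_apply,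
      hp.factorization_self, smul_eq_mul, mul_one]
  have horb : MulAction.orbit N b = {c : Ω | c ∈ Fx X ∧ c ≠ a} := by
    ext c
    refine ⟨?_, fun hc => ?_⟩
    · rintro ⟨g, rfl⟩
      exact ⟨smul_mem_Fx g.2.2 hb, fun e => hba (MulAction.injective (g : G)
        (e.trans (g.2.1.1 : (g : G) • a = a).symm))⟩
    · obtain ⟨g, hgZ, hga, hgb⟩ := cen_two_transitive h.fix h.propF hZc h3Z haZ hbZ
        (Fx_anti hZX hc.1) hgood hba hc.2
      have hX' : SylowIn p (X.map (MulAut.conj g⁻¹).toMonoidHom) DZ := by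
        refine ⟨?_, by rw [Subgroup.card_map_of_injective (MulAut.conj g⁻¹).injective, hsyl.2]⟩
        rintro _ ⟨x, hx, rfl⟩
        refine ⟨⟨?_, ?_⟩, ?_⟩
        · show (g⁻¹ * x * g⁻¹⁻¹) • a = a
          rw [inv_inv, mul_smul, mul_smul, hga, (ha hx : x • a = a), inv_smul_eq_iff, hga]
        · show (g⁻¹ * x * g⁻¹⁻¹) • b = b
          rw [inv_inv, mul_smul, mul_smul, hgb, (hc.1 hx : x • c = c), inv_smul_eq_iff, hgb]
        · show g⁻¹ * x * g⁻¹⁻¹ ∈ Subgroup.centralizer (Z : Set G)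
          exact mul_mem (mul_mem (inv_mem hgZ) (hXN x hx)) (inv_mem (inv_mem hgZ))
      obtain ⟨k, hk, hkX⟩ := hsyl.conj_eq hX'
      refine ⟨⟨g * k, Subgroup.mem_inf.2 ⟨Subgroup.mem_inf.2
        ⟨mul_mem (show g ∈ stabilizer G a from hga) hk.1.1, mul_mem hgZ hk.2⟩, ?_⟩⟩, ?_⟩
      · rw [Subgroup.mem_normalizer_iff_map_conj_eq]
        refine Subgroup.eq_of_le_of_card_ge ?_
          (Subgroup.card_map_of_injective (MulAut.conj (g * k)).injective).ge
        rintro _ ⟨x, hx, rfl⟩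
        obtain ⟨x', hx', e'⟩ := (hkX.le ⟨x, hx, rfl⟩ : (MulAut.conj k) x ∈
          X.map (MulAut.conj g⁻¹).toMonoidHom)
        have e'' : g⁻¹ * x' * g⁻¹⁻¹ = k * x * k⁻¹ := e'
        show g * k * x * (g * k)⁻¹ ∈ X
        rw [show g * k * x * (g * k)⁻¹ = g * (k * x * k⁻¹) * g⁻¹ by group, ← e'',
          show g * (g⁻¹ * x' * g⁻¹⁻¹) * g⁻¹ = x' by group]
        exact hx'
      · show (g * k) • b = c
        rw [mul_smul, (hk.1.2 : k • b = b), hgb]
  set S := Nat.card {c : Ω // c ∈ Fx X ∧ c ≠ a} with hS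
  have hcardN : S * Nat.card X = Nat.card N := by
    have h1 := Nat.card_congr (MulAction.orbitProdStabilizerEquivGroup N b)
    rw [Nat.card_prod, horb] at h1
    rw [← h1]
    congr 1
    exact Nat.card_congr
      { toFun := fun x => ⟨⟨x.1, hXleN x.2⟩, (hb x.2 : (x : G) • b = b)⟩
        invFun := fun x => ⟨x.1.1, hstab _ x.1.2 x.2⟩
        left_inv := fun x => rfl
        right_inv := fun x => rfl }
  haveI : Nonempty {c : Ω // c ∈ Fx X ∧ c ≠ a} := ⟨⟨b, hb, hba⟩⟩
  have htwo : ∀ r : ℕ, r.Prime → r ∣ S → r = 2 := by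
    intro r hr hrS
    by_contra hr2
    haveI := Fact.mk hr
    have hrp : r ≠ p := fun e => hpS (e ▸ hrS)
    obtain ⟨h', hh'⟩ := exists_prime_orderOf_dvd_card' (G := N) r
      (hrS.trans (hcardN ▸ dvd_mul_right S _))
    set g : G := (h' : G) with hgdef
    have hgN : g ∈ N := h'.2
    have hgo : orderOf g = r := by rw [hgdef, Subgroup.orderOf_coe, hh']
    have hgz : g * z = z * g :=
      (Subgroup.mem_centralizer_iff.1 hgN.1.2 z (Subgroup.mem_zpowers z)).symm
    have hgX : ∀ x ∈ X, g * x = x * g := commute_of_cyclic hp d.card d.cyclic hgN.2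
      (by rw [hgo]; exact (Nat.coprime_primes hr hp).2 hrp) hzX hz1 hgz
    set R := Subgroup.zpowers g with hR
    have hRg : IsPGroup r R := IsPGroup.of_card (n := 1) (by rw [Nat.card_zpowers, hgo, pow_one])
    have hRN : R ≤ N := Subgroup.zpowers_le.2 hgN
    -- a point fixed by `g` among those of `Z`
    letI : MulAction R {c : Ω // c ∈ Fx Z ∧ c ≠ a} :=
      { smul := fun x c => ⟨(x : G) • c.1,
          smul_mem_Fx (Subgroup.centralizer_le_normalizer _ (hRN x.2).1.2) c.2.1,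
          fun e => c.2.2 (MulAction.injective (x : G)
            (e.trans ((hRN x.2).1.1 : (x : G) • a = a).symm))⟩
        one_smul := fun c => Subtype.ext (one_smul G c.1)
        mul_smul := fun x x' c => Subtype.ext (mul_smul (x : G) (x' : G) c.1) }
    obtain ⟨⟨c, hcZ, hca⟩, hcfix⟩ := hRg.nonempty_fixed_point_of_prime_not_dvd_card
      {c : Ω // c ∈ Fx Z ∧ c ≠ a}
      (by rw [hi]; exact fun hh => hr2 ((Nat.prime_dvd_prime_iff_eq hr Nat.prime_two).1
        (hr.dvd_of_dvd_pow hh)))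
    have hcR : c ∈ Fx R := fun x hx => congrArg Subtype.val (hcfix ⟨x, hx⟩)
    have haR : a ∈ Fx R := fun x hx => (hRN hx).1.1
    have hpF : ¬ p ∣ Nat.card {f : Ω // f ∈ Fx R ∧ f ≠ a} := by
      by_cases h3R : ∃ f, f ∈ Fx R ∧ f ≠ a ∧ f ≠ c
      · obtain ⟨f, hf, hfa, hfc⟩ := h3R
        have h3R' : Three R Ω := ⟨a, c, f, hca.symm, hfa, hfc, haR, hcR, hf⟩
        obtain ⟨s, hs⟩ := exists_cen h.fix h.propF hRg h3R' haR
        haveI : Nonempty ↥(invCen R a) := ⟨⟨s, hs⟩⟩
        have hR1 : 1 < Nat.card (invCen R a) := by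
          refine lt_of_le_of_ne Nat.card_pos fun h1 => hnp ?_
          obtain ⟨hW', -⟩ := transfer h hba hca hW hcomm
          obtain ⟨e', t', K', d'⟩ := exists_data h hca hW' hcomm hr hRg (le_pairStab haR hcR) h1.symm
          have e1 := d'.cardJ
          rw [d.cardJ, Nat.card_zpowers, hgo] at e1
          rw [Nat.pow_right_injective le_rfl e1]
          exact hr
        obtain ⟨j, hj⟩ := card_Fx_eq_two_pow h.fix h.propF hRg h3R' haR hR1 h.below (fun htop =>
          hr.ne_one (by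
            have hg1 : g = 1 := by
              rw [← Subgroup.mem_bot, ← h.center, Subgroup.mem_center_iff]
              exact fun g' => (Subgroup.mem_centralizer_iff.1 (htop.ge (Subgroup.mem_top g')) g
                (Subgroup.mem_zpowers g)).symm
            rw [← hgo, hg1, orderOf_one]))
        rw [hj]
        exact fun hh => hp2 ((Nat.prime_dvd_prime_iff_eq hp Nat.prime_two).1
          (hp.dvd_of_dvd_pow hh))
      · push Not at h3R
        haveI : Subsingleton {f : Ω // f ∈ Fx R ∧ f ≠ a} :=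
          ⟨fun f f' => Subtype.ext ((h3R f.1 f.2.1 f.2.2).trans (h3R f'.1 f'.2.1 f'.2.2).symm)⟩
        rw [Nat.card_of_subsingleton (⟨c, hcR, hca⟩ : {f : Ω // f ∈ Fx R ∧ f ≠ a})]
        exact hp.not_dvd_one
    letI : MulAction X {f : Ω // f ∈ Fx R ∧ f ≠ a} :=
      { smul := fun x f => ⟨(x : G) • f.1,
          smul_mem_Fx (Subgroup.centralizer_le_normalizer _ (Subgroup.mem_centralizer_iff.2
            fun w hw => by
              obtain ⟨n, rfl⟩ := Subgroup.mem_zpowers_iff.1 hw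
              exact ((show Commute g (x : G) from hgX x x.2).zpow_left n).eq)) f.2.1,
          fun e => f.2.2 (MulAction.injective (x : G) (e.trans (ha x.2 : (x : G) • a = a).symm))⟩
        one_smul := fun f => Subtype.ext (one_smul G f.1)
        mul_smul := fun x x' f => Subtype.ext (mul_smul (x : G) (x' : G) f.1) }
    obtain ⟨⟨f, hfR, hfa⟩, hffix⟩ :=
      hX.nonempty_fixed_point_of_prime_not_dvd_card {f : Ω // f ∈ Fx R ∧ f ≠ a} hpF
    have hfX : f ∈ Fx X := fun x hx => congrArg Subtype.val (hffix ⟨x, hx⟩)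
    obtain ⟨hW', -⟩ := transfer h hba hfa hW hcomm
    obtain ⟨e', t', K', d'⟩ := exists_data h hfa hW' hcomm hp hX (le_pairStab ha hfX) hone
    have hgmem := d'.mem_of_normalizer ⟨hgN.1.1, hfR (Subgroup.mem_zpowers g)⟩ hgN.2
    have h1 : r ∣ p ^ e := hgo ▸ d.card ▸ Subgroup.orderOf_dvd_natCard _ hgmem
    exact hrp ((Nat.prime_dvd_prime_iff_eq hr hp).1 (hr.dvd_of_dvd_pow h1))
  obtain ⟨k, hk⟩ : ∃ k, S = 2 ^ k :=
    ⟨S.primeFactorsList.length, Nat.eq_prime_pow_of_unique_prime_dvd Nat.card_pos.ne'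
      fun {r} hr hrS => htwo r hr hrS⟩
  refine ⟨fun y hy hya => ?_, ?_⟩
  · obtain ⟨g, hg⟩ : ∃ g : N, (g : G) • b = y := by
      obtain ⟨g, hg⟩ := (horb.ge ⟨hy, hya⟩ : y ∈ MulAction.orbit N b)
      exact ⟨g, hg⟩
    haveI hnormal : (X.subgroupOf N).Normal :=
      ⟨fun x hx n => Subgroup.mem_subgroupOf.2 ((Subgroup.mem_normalizer_iff.1 n.2.2 _).1 hx)⟩
    have hidx : (X.subgroupOf N).index = 2 ^ k := by
      have h1 := (X.subgroupOf N).card_mul_index
      rw [Nat.card_congr (Subgroup.subgroupOfEquivOfLe hXleN).toEquiv, ← hcardN, hk,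
        mul_comm (2 ^ k)] at h1
      exact Nat.eq_of_mul_eq_mul_left Nat.card_pos h1
    have h2 : (g : G) ^ 2 ^ k ∈ X := by
      have := Subgroup.pow_index_mem (X.subgroupOf N) g
      rw [hidx] at this
      exact this
    obtain ⟨α, β, hab⟩ := Int.isCoprime_iff_gcd_eq_one.2
      (show Int.gcd ((p : ℤ) ^ e) ((2 : ℤ) ^ k) = 1 by
        rw [Int.gcd, Int.natAbs_pow, Int.natAbs_pow, Int.natAbs_natCast]
        exact ((Nat.coprime_primes hp Nat.prime_two).2 hp2).pow e k)
    set o : G := ((g : G) ^ p ^ e) ^ α with hodef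
    have hgo : (g : G) = o * ((g : G) ^ 2 ^ k) ^ β := by
      have e1 : ((p ^ e : ℕ) : ℤ) * α + ((2 ^ k : ℕ) : ℤ) * β = 1 := by
        push_cast; linarith
      rw [hodef, ← zpow_natCast (g : G) (p ^ e), ← zpow_natCast (g : G) (2 ^ k), ← zpow_mul,
        ← zpow_mul, ← zpow_add, e1, zpow_one]
    have hon : (g : G) ^ p ^ e ∈ N := pow_mem g.2 _
    have ho2 : (orderOf ((g : G) ^ p ^ e)).Coprime p := by
      refine Nat.Coprime.coprime_dvd_left (orderOf_dvd_of_pow_eq_one (n := 2 ^ k) ?_)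
        (((Nat.coprime_primes Nat.prime_two hp).2 (Ne.symm hp2)).pow_left k)
      rw [← pow_mul, mul_comm, pow_mul, ← d.card]
      exact orderOf_dvd_iff_pow_eq_one.1 (Subgroup.orderOf_dvd_natCard _ h2)
    have hoX : ∀ x ∈ X, Commute ((g : G) ^ p ^ e) x := commute_of_cyclic hp d.card d.cyclic hon.2 ho2
      hzX hz1 (Subgroup.mem_centralizer_iff.1 hon.1.2 z (Subgroup.mem_zpowers z)).symm
    refine ⟨o, Subgroup.mem_centralizer_iff.2 fun x hx => ((hoX x hx).zpow_left α).eq.symm,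
      (zpow_mem hon α : o ∈ N).1.1, ?_⟩
    rw [← hg, hgo, mul_smul, (hb (zpow_mem h2 β) : ((g : G) ^ 2 ^ k) ^ β • b = b)]
  · show S.Coprime _
    rw [hk]
    exact (Nat.coprime_two_left.2 (h.fix.odd_pairStab hba.symm)).pow_left k

end Cfsg.Agent.Lib.BenderOne67.C2.SinglePair
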