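import Mathlib
import Cfsg.Agent.Lib.BenderOne67.C2.PrimeCase
import Cfsg.Agent.Lib.BenderOne67.C2.PrimePower

/-!
# Node C2, case II: the involutions at `a` commute and only `1` centralises them

`PropCommEnd` of the single case.
-/

set_option autoImplicit false
set_option linter.style.haveILetI false

namespace Cfsg.Agent.Lib.BenderOne67.C2

open MulAction Cfsg.Agent.Lib.Involutions.Basic
open Cfsg.Agent.Lib.BenderOne20 Cfsg.Agent.Lib.BenderOne8
open Cfsg.Agent.Lib.BenderOne8.Single (Ctx IsSingle Comm W0One Reg PropCommEnd HasSingle)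

universe u

/-- Case II of the single case. -/
theorem propCommEnd : PropCommEnd.{u} := by
  intro G Ω _ _ _ a b h hba hW hcomm hsing
  obtain ⟨p, X, hp, hX, hXD, h3, ha, hone⟩ := hsing
  obtain ⟨e, t, K, d⟩ := SinglePair.exists_data h hba hW hcomm hp hX hXD hone
  by_cases hq : (Nat.card X).Prime
  · exact SinglePair.reg_of_prime h hba hcomm d hq
  -- otherwise no single subgroup has prime order, so all of them are good enough
  refine exists_regular_subgroup h.fix h.propF (fun p' X' a' b' hp' hX' _ h3' ha' hb' hba' hone' => ?_)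
    h.below h.center (SinglePair.one_lt h a)
  obtain ⟨hW', hcomm'⟩ := SinglePair.transfer h hba hba' hW hcomm
  obtain ⟨e', t', K', d'⟩ :=
    SinglePair.exists_data h hba' hW' hcomm' hp' hX' (le_pairStab ha' hb') hone'
  refine SinglePair.good_of_pow h hba' hW' hcomm' hp' hX' h3' ha' hb' hone' fun hq' => hq ?_
  have e1 := d'.cardJ
  rw [h.fix.card_invAt a' a, d.cardJ] at e1
  rw [Nat.pow_right_injective le_rfl e1]
  exact hq'

end Cfsg.Agent.Lib.BenderOne67.C2
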