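import Mathlib

/-!
# Integral vectors with pairwise squared distance two

Integral vectors indexed by a finite set, any two at squared distance two and with differences
orthogonal to a positive vector, differ from a common vector by distinct unit vectors of one sign.
-/

set_option autoImplicit false

namespace Cfsg.Agent.Lib.BenderOne67.C2.Star

variable {X : Type*} [Fintype X] [DecidableEq X]

/-- The difference of two unit vectors. -/
def root (p r : X) : X → ℤ := fun x => (if x = p then 1 else 0) - (if x = r then 1 else 0)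

theorem exists_root {d : X → ℤ} {a : X → ℕ} (hpos : ∀ x, 0 < a x) (h2 : ∑ x, d x ^ 2 = 2)
    (h0 : ∑ x, (a x : ℤ) * d x = 0) : ∃ p r, p ≠ r ∧ a p = a r ∧ ∀ x, d x = root p r x := by
  have hsmall : ∀ x, d x = 0 ∨ d x = 1 ∨ d x = -1 := by
    intro x
    have h : d x ^ 2 ≤ 2 := h2 ▸ Finset.single_le_sum (f := fun x => d x ^ 2)
      (fun i _ => sq_nonneg _) (Finset.mem_univ x)
    have h1 : -1 ≤ d x := by nlinarith
    have h1' : d x ≤ 1 := by nlinarith
    omega
  set S := Finset.univ.filter (fun x => d x ≠ 0) with hS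
  have hcard : S.card = 2 := by
    have h : ∑ x, d x ^ 2 = (S.card : ℤ) := by
      rw [Finset.card_filter, Nat.cast_sum]
      refine Finset.sum_congr rfl fun x _ => ?_
      rcases hsmall x with h | h | h <;> simp [h]
    rw [h2] at h
    exact_mod_cast h.symm
  obtain ⟨p, r, hpr, hSpr⟩ := Finset.card_eq_two.1 hcard
  have hout : ∀ x, x ≠ p → x ≠ r → d x = 0 := by
    intro x hp hr
    by_contra h
    have hx : x ∈ S := Finset.mem_filter.2 ⟨Finset.mem_univ x, h⟩
    rw [hSpr] at hx
    simp [hp, hr] at hx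
  have hp0 : d p ≠ 0 := (Finset.mem_filter.1 (hSpr ▸ Finset.mem_insert_self p _ : p ∈ S)).2
  have hr0 : d r ≠ 0 := (Finset.mem_filter.1
    (hSpr ▸ Finset.mem_insert_of_mem (Finset.mem_singleton_self r) : r ∈ S)).2
  have hsum : (a p : ℤ) * d p + (a r : ℤ) * d r = 0 := by
    rw [← h0, ← Finset.sum_pair (f := fun x => (a x : ℤ) * d x) hpr]
    exact Finset.sum_subset (Finset.subset_univ _) fun x _ hx => by
      simp only [Finset.mem_insert, Finset.mem_singleton, not_or] at hx
      rw [hout x hx.1 hx.2, mul_zero]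
  have hap := hpos p
  have har := hpos r
  have key : ∀ p r, p ≠ r → d p = 1 → d r = -1 → (∀ x, x ≠ p → x ≠ r → d x = 0) →
      ∀ x, d x = root p r x := by
    intro p r hpr hp hr hout x
    by_cases hxp : x = p
    · subst hxp; simp [root, hp, hpr]
    by_cases hxr : x = r
    · subst hxr; simp [root, hr, hxp]
    simp [root, hxp, hxr, hout x hxp hxr]
  rcases (hsmall p).resolve_left hp0 with hp | hp <;>
    rcases (hsmall r).resolve_left hr0 with hr | hr <;> rw [hp, hr] at hsum
  · omega
  · exact ⟨p, r, hpr, by omega, key p r hpr hp hr hout⟩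
  · exact ⟨r, p, hpr.symm, by omega, key r p hpr.symm hr hp fun x h1 h2 => hout x h2 h1⟩
  · omega

theorem root_compat {p r p' r' : X} (hpr : p ≠ r) (hpr' : p' ≠ r')
    (h2 : ∑ x, (root p r x - root p' r' x) ^ 2 = 2) :
    (p = p' ∧ r ≠ r') ∨ (r = r' ∧ p ≠ p') := by
  have hmul : ∀ p r p' r' : X, ∑ x, root p r x * root p' r' x =
      (if p = p' then 1 else 0) - (if p = r' then 1 else 0) - (if r = p' then 1 else 0) +
        (if r = r' then 1 else 0) := by
    intro p r p' r'
    simp only [root, sub_mul, mul_sub, Finset.sum_sub_distrib, ite_mul, one_mul, zero_mul,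
      Finset.sum_ite_eq', Finset.mem_univ, if_true]
    ring
  have hexp : ∑ x, (root p r x - root p' r' x) ^ 2 = ∑ x, root p r x * root p r x -
      2 * ∑ x, root p r x * root p' r' x + ∑ x, root p' r' x * root p' r' x := by
    rw [Finset.mul_sum, ← Finset.sum_sub_distrib, ← Finset.sum_add_distrib]
    exact Finset.sum_congr rfl fun x _ => by ring
  rw [hexp, hmul, hmul, hmul] at h2
  simp only [if_true, if_neg hpr, if_neg hpr.symm, if_neg hpr', if_neg hpr'.symm] at h2
  by_cases h1 : p = p' <;> by_cases h4 : r = r' <;> simp only [h1, h4, if_true, if_false] at h2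
  · subst h1 h4
    simp [hpr, hpr.symm] at h2
  · exact Or.inl ⟨h1, h4⟩
  · exact Or.inr ⟨h4, h1⟩
  · split_ifs at h2 <;> omega

variable {I : Type*} [Fintype I] [DecidableEq I]

/-- At least three such vectors come from unit vectors of one sign. -/
theorem star {f : I → X → ℤ} {a : X → ℕ} (hpos : ∀ x, 0 < a x)
    (h2 : ∀ i j, i ≠ j → ∑ x, (f i x - f j x) ^ 2 = 2)
    (h0 : ∀ i j, ∑ x, (a x : ℤ) * (f i x - f j x) = 0) (hI : 3 ≤ Fintype.card I) :
    ∃ (σ : I → X) (ε : ℤ) (A : X → ℤ), Function.Injective σ ∧ (ε = 1 ∨ ε = -1) ∧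
      (∀ i j, a (σ i) = a (σ j)) ∧ ∀ i x, f i x = A x + if x = σ i then ε else 0 := by
  obtain ⟨i₀⟩ : Nonempty I := Fintype.card_pos_iff.1 (by omega)
  have hroot : ∀ j, j ≠ i₀ → ∃ pr : X × X, pr.1 ≠ pr.2 ∧ a pr.1 = a pr.2 ∧
      ∀ x, f j x - f i₀ x = root pr.1 pr.2 x := fun j hj => by
    obtain ⟨p, r, h1, h2', h3⟩ := exists_root hpos (h2 j i₀ hj) (h0 j i₀)
    exact ⟨(p, r), h1, h2', h3⟩
  choose pr hne ha hf using hroot
  have hcompat : ∀ j k (hj : j ≠ i₀) (hk : k ≠ i₀), j ≠ k →
      ((pr j hj).1 = (pr k hk).1 ∧ (pr j hj).2 ≠ (pr k hk).2) ∨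
      ((pr j hj).2 = (pr k hk).2 ∧ (pr j hj).1 ≠ (pr k hk).1) := by
    intro j k hj hk hjk
    refine root_compat (hne j hj) (hne k hk) ?_
    rw [← h2 j k hjk]
    exact Finset.sum_congr rfl fun x _ => by rw [← hf j hj, ← hf k hk, sub_sub_sub_cancel_right]
  obtain ⟨j₀, hj₀, k₀, hk₀, hjk₀⟩ : ∃ j, j ≠ i₀ ∧ ∃ k, k ≠ i₀ ∧ j ≠ k := by
    have h := Finset.card_erase_of_mem (Finset.mem_univ i₀)
    rw [Finset.card_univ] at h
    obtain ⟨j, hj, k, hk, hjk⟩ := Finset.one_lt_card.1
      (show 1 < (Finset.univ.erase i₀).card by omega)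
    exact ⟨j, (Finset.mem_erase.1 hj).1, k, (Finset.mem_erase.1 hk).1, hjk⟩
  rcases hcompat j₀ k₀ hj₀ hk₀ hjk₀ with ⟨hP, hR⟩ | ⟨hR, hP⟩
  · set P := (pr j₀ hj₀).1 with hPdef
    have hall : ∀ l (hl : l ≠ i₀), (pr l hl).1 = P := by
      intro l hl
      by_contra hne'
      have hlj : l ≠ j₀ := fun h => by subst h; exact hne' rfl
      have hlk : l ≠ k₀ := fun h => by subst h; exact hne' hP.symm
      have e1 := (hcompat l j₀ hl hj₀ hlj).resolve_left fun h => hne' h.1
      have e2 := (hcompat l k₀ hl hk₀ hlk).resolve_left fun h => hne' (h.1.trans hP.symm)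
      exact hR (e1.1.symm.trans e2.1)
    let σ : I → X := fun i => if h : i = i₀ then P else (pr i h).2
    have hσ₀ : σ i₀ = P := by simp [σ]
    have hσ : ∀ i (h : i ≠ i₀), σ i = (pr i h).2 := fun i h => by simp [σ, h]
    have hσne : ∀ i (h : i ≠ i₀), σ i ≠ P := fun i h e => hne i h ((hall i h).trans (e.symm.trans (hσ i h)))
    refine ⟨σ, -1, fun x => f i₀ x + if x = P then 1 else 0, ?_, Or.inr rfl, ?_, ?_⟩
    · intro i j h
      by_contra hij
      by_cases hi : i = i₀
      · subst hi
        exact hσne j (Ne.symm hij) (h.symm.trans hσ₀)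
      by_cases hj : j = i₀
      · subst hj
        exact hσne i hi (h.trans hσ₀)
      rw [hσ i hi, hσ j hj] at h
      rcases hcompat i j hi hj hij with h' | h'
      · exact h'.2 h
      · exact h'.2 ((hall i hi).trans (hall j hj).symm)
    · have hc : ∀ i, a (σ i) = a P := fun i => by
        by_cases hi : i = i₀
        · rw [hi, hσ₀]
        · rw [hσ i hi, ← ha i hi, hall i hi]
      exact fun i j => (hc i).trans (hc j).symm
    · intro i x
      dsimp only
      by_cases hi : i = i₀
      · subst hi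
        rw [hσ₀]
        split_ifs <;> ring
      · have h := hf i hi x
        rw [root, hall i hi] at h
        rw [hσ i hi]
        split_ifs at h ⊢ <;> linarith
  · set R := (pr j₀ hj₀).2 with hRdef
    have hall : ∀ l (hl : l ≠ i₀), (pr l hl).2 = R := by
      intro l hl
      by_contra hne'
      have hlj : l ≠ j₀ := fun h => by subst h; exact hne' rfl
      have hlk : l ≠ k₀ := fun h => by subst h; exact hne' hR.symm
      have e1 := (hcompat l j₀ hl hj₀ hlj).resolve_right fun h => hne' h.1
      have e2 := (hcompat l k₀ hl hk₀ hlk).resolve_right fun h => hne' (h.1.trans hR.symm)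
      exact hP (e1.1.symm.trans e2.1)
    let σ : I → X := fun i => if h : i = i₀ then R else (pr i h).1
    have hσ₀ : σ i₀ = R := by simp [σ]
    have hσ : ∀ i (h : i ≠ i₀), σ i = (pr i h).1 := fun i h => by simp [σ, h]
    have hσne : ∀ i (h : i ≠ i₀), σ i ≠ R := fun i h e =>
      hne i h (((hσ i h).symm.trans e).trans (hall i h).symm)
    refine ⟨σ, 1, fun x => f i₀ x - if x = R then 1 else 0, ?_, Or.inl rfl, ?_, ?_⟩
    · intro i j h
      by_contra hij
      by_cases hi : i = i₀
      · subst hi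
        exact hσne j (Ne.symm hij) (h.symm.trans hσ₀)
      by_cases hj : j = i₀
      · subst hj
        exact hσne i hi (h.trans hσ₀)
      rw [hσ i hi, hσ j hj] at h
      rcases hcompat i j hi hj hij with h' | h'
      · exact h'.2 ((hall i hi).trans (hall j hj).symm)
      · exact h'.2 h
    · have hc : ∀ i, a (σ i) = a R := fun i => by
        by_cases hi : i = i₀
        · rw [hi, hσ₀]
        · rw [hσ i hi, ha i hi, hall i hi]
      exact fun i j => (hc i).trans (hc j).symm
    · intro i x
      dsimp only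
      by_cases hi : i = i₀
      · subst hi
        rw [hσ₀]
        split_ifs <;> ring
      · have h := hf i hi x
        rw [root, hall i hi] at h
        rw [hσ i hi]
        split_ifs at h ⊢ <;> linarith

end Cfsg.Agent.Lib.BenderOne67.C2.Star
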